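import Cfsg.Agent.Lib.Invol.Cen192.AP.Main

/-! The centraliser with interchanged factors: conclusion. -/

set_option autoImplicit false
set_option linter.unusedSectionVars false
set_option maxRecDepth 100000

namespace Cfsg.Agent.Invol.Cen192

theorem q_class : ((List.range 192).all fun i => !(i % 6 == 0) || !(AP.cl i == 5 || AP.cl i == 6)) = true := by
  decide +kernel

variable {G : Type*} [Group G] [Finite G]

/-- The first three alternatives. -/
theorem aplus_case {s x y : G} {Q : Subgroup G} {A B : ℕ → G} (r : Rels true 0 s x y A B)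
    (inj : ∀ i < 192, ∀ j < 192, el s x y A B i = el s x y A B j → i = j)
    (cen : ∀ g : G, g * s = s * g ↔ ∃ i < 192, el s x y A B i = g)
    (hQ : ∀ g : G, g ∈ Q ↔ ∃ i < 192, i % 6 = 0 ∧ el s x y A B i = g)
    {g : G} (hg : g * s * g⁻¹ ∈ Q) (hne : g * s * g⁻¹ ≠ s) :
    (∃ (N : Subgroup G) (hN : N.Normal), IsMulCommutative N ∧ (∀ n ∈ N, n ^ 2 = 1) ∧ Nat.card N = 8 ∧
        Nonempty (G ⧸ N ≃* Matrix.ProjectiveSpecialLinearGroup (Fin 3) (ZMod 2))) ∨
      Nonempty (G ≃* alternatingGroup (Fin 8)) ∨ Nonempty (G ≃* alternatingGroup (Fin 9)) := by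
  have e96 : el s x y A B 96 = s := (el_const r).2
  let h : AP.St G :=
    { e := el s x y A B
      inj := inj
      mul := fun i hi j hj => by rw [AP.mA_eq hi hj, r.el_mul]
      cen := fun a => by rw [show AP.zI = 96 from rfl, e96, cen] }
  obtain ⟨k, hk, hk6, hke⟩ := (hQ _).1 hg
  have hie : h.e k = g * s * g⁻¹ := hke
  have hez : h.e AP.zI = s := e96
  have hc : IsConj (h.e AP.zI) (h.e k) := isConj_iff.2 ⟨g, by rw [hie, hez]⟩
  obtain ⟨h1, h6⟩ := (h.sq_iff hk).1 (by rw [hie, orderOf_conj_eq, ← hez, h.ord_z])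
  have hq := q_class
  simp only [List.all_eq_true, List.mem_range, Bool.or_eq_true, Bool.not_eq_true', beq_iff_eq,
    beq_eq_false_iff_ne, Bool.or_eq_false_iff] at hq
  have hne1 : AP.cl k ≠ 1 := fun e => hne (by rw [← hie, (AP.cl_spec hk).2.2.1 e, hez])
  have h56 := (hq k hk).resolve_left (fun e => e hk6)
  exact AP.main h (k := AP.cl k) (by omega) (by omega) ((h.zc_of hk h1 h6).1 hc)

end Cfsg.Agent.Invol.Cen192
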