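import Cfsg.Agent.Lib.Spor.RankFourQuotMain

/-! A self-centralising elementary abelian normal subgroup of order 8 and index 168. -/

set_option autoImplicit false
set_option linter.unusedSectionVars false
set_option linter.style.haveILetI false

namespace Cfsg.Agent.Invol.Cen192

variable {G : Type*} [Group G] [Finite G]

theorem quot_psl3 (N : Subgroup G) [N.Normal] (hN8 : Nat.card N = 8) (hexp : ∀ n ∈ N, n * n = 1)
    (hcent : ∀ g, (∀ n ∈ N, g * n = n * g) → g ∈ N) (hG : Nat.card G = 1344) :
    ∃ (N : Subgroup G) (hN : N.Normal), IsMulCommutative N ∧ (∀ n ∈ N, n ^ 2 = 1) ∧ Nat.card N = 8 ∧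
      Nonempty (G ⧸ N ≃* Matrix.ProjectiveSpecialLinearGroup (Fin 3) (ZMod 2)) := by
  classical
  have hcomm : ∀ a b : N, a * b = b * a := fun a b => by
    have e : ∀ c : N, c⁻¹ = c := fun c => inv_eq_of_mul_eq_one_right (Subtype.ext (hexp c c.2))
    rw [← e (a * b), mul_inv_rev, e a, e b]
  haveI hc : IsMulCommutative N := ⟨⟨hcomm⟩⟩
  letI : CommGroup N := { (inferInstance : Group N) with mul_comm := hcomm }
  letI : Module (ZMod 2) (Additive N) := AddCommGroup.zmodModule (n := 2) fun a => by
    rw [two_nsmul]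
    exact congrArg Additive.ofMul (Subtype.ext (hexp a.toMul a.toMul.2) : a.toMul * a.toMul = 1)
  haveI : Fintype (Additive N) := Fintype.ofFinite _
  have hdim : Module.finrank (ZMod 2) (Additive N) = 3 := by
    have h1 := Module.natCard_eq_pow_finrank (K := ZMod 2) (V := Additive N)
    rw [show Nat.card (Additive N) = 8 from hN8, Nat.card_zmod] at h1
    exact (Nat.pow_right_injective (le_refl 2) (show (2 : ℕ) ^ 3 = 2 ^ _ from h1)).symm
  let b := Module.finBasisOfFinrankEq (ZMod 2) (Additive N) hdim
  let ρ : G →* Module.End (ZMod 2) (Additive N) :=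
    { toFun := fun g => AddMonoidHom.toZModLinearMap 2
        (MonoidHom.toAdditive (MulAut.conjNormal g : N ≃* N).toMonoidHom)
      map_one' := LinearMap.ext fun v => by simp
      map_mul' := fun g h => LinearMap.ext fun v => by simp [map_mul] }
  let φ : G →* GL (Fin 3) (ZMod 2) := ((LinearMap.toMatrixAlgEquiv b).toMonoidHom.comp ρ).toHomUnits
  have hker : φ.ker = N := by
    ext g
    have h1 : g ∈ φ.ker ↔ ρ g = 1 := by
      rw [MonoidHom.mem_ker, Units.ext_iff]
      show LinearMap.toMatrixAlgEquiv b (ρ g) = 1 ↔ _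
      rw [EmbeddingLike.map_eq_one_iff]
    rw [h1]
    constructor
    · intro e
      refine hcent g fun n hn => ?_
      have h2 := congrArg (fun f : Module.End (ZMod 2) (Additive N) => ((f (Additive.ofMul ⟨n, hn⟩)).toMul : G)) e
      simp [ρ] at h2
      exact mul_inv_eq_iff_eq_mul.1 h2
    · intro hg
      refine LinearMap.ext fun v => ?_
      apply congrArg Additive.ofMul (?_ : MulAut.conjNormal g v.toMul = v.toMul)
      refine Subtype.ext ?_
      rw [MulAut.conjNormal_apply]
      have := congrArg Subtype.val (hcomm ⟨g, hg⟩ v.toMul)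
      exact mul_inv_eq_iff_eq_mul.2 this
  obtain ⟨e⟩ := Cfsg.Agent.Spor.RankFourQuot.pslThree
  refine ⟨N, inferInstance, hc, fun n hn => by rw [pow_two]; exact hexp n hn, hN8, ⟨?_⟩⟩
  have hsurj : Function.Surjective φ := by
    rw [← MonoidHom.range_eq_top]
    refine Subgroup.eq_top_of_card_eq _ ?_
    have h2 := φ.ker.card_mul_index
    rw [Subgroup.index_ker, hker, hN8, hG] at h2
    have h3 : Nat.card φ.range = 168 := by omega
    rw [h3, Matrix.card_GL_field, Fintype.card_eq_nat_card, Nat.card_zmod]
    simp [Fin.prod_univ_three]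
  exact ((QuotientGroup.quotientMulEquivOfEq hker.symm).trans (QuotientGroup.quotientKerEquivOfSurjective φ hsurj)).trans e

end Cfsg.Agent.Invol.Cen192
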