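import Cfsg.Agent.Lib.Invol.Cen192.Minus
import Cfsg.Agent.Lib.Invol.Cen192.Quot8
import Cfsg.Agent.Lib.Invol.M12.Main

/-! The centraliser of M12. -/

set_option autoImplicit false
set_option linter.unusedSectionVars false
set_option maxRecDepth 100000

noncomputable section

namespace Cfsg.Agent.Invol.Cen192

open Cfsg.Agent.Invol

/-- from table indices to formula indices -/
def tauTbl : ℕ :=
  0x81a17f9fbbbf9e9c1964739d75671d7e54824d3562b22a7183866d49774b6fbe3a38bc43080651100e12338457371b60a6a45869bd29ae16312f2c6b2e1325a0aaa861552b884a4f6a8c6866485611a30dab538090948f65b53b59b3b0304774b8b47276348a8d360985890b9115b17d45ba7c7a070ab7639b970f0c17142d39a5a21c276c989a706e1a79af3f41a9ac8b014c8e3e3cada71f219592b90532b61e2293875f5b7b7846994e260318965e5c3d285240235044205d42245a040200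

/-- from table indices to formula indices -/
def tau (i : ℕ) : ℕ := Cfsg.Agent.Spor.Coset.fld 8 tauTbl i

/-- the normal eights -/
def EI : List ℕ := (List.range 192).filter fun i => i == 0 || M12.isZ false (M12.cl i)

theorem tau_ok : ((List.range 192).all fun i => decide (tau i < 192) && (List.range 192).all fun j =>
      tau (M12.mL i j) == fmul false 0 (tau i) (tau j) && (!(tau i == tau j) || i == j)) = true ∧
    ((List.range 192).all fun k => (List.range 192).any fun i => tau i == k) = true ∧ tau M12.zI = 96 ∧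
    ((List.range 192).all fun i => !(tau i % 6 == 0) || !(M12.cl i == 4)) = true := by
  decide +kernel

theorem eight_ok : EI.length = 8 ∧ (EI.all fun i => (EI.all fun j => EI.contains (M12.mL i (M12.iL j))) &&
      M12.mL i i == 0) = true ∧
    ((List.range 192).all fun i => !(EI.all (M12.com i)) || EI.contains i) = true ∧ 0 ∈ EI := by
  decide +kernel

theorem mem_EI {i : ℕ} : i ∈ EI ↔ i < 192 ∧ (i = 0 ∨ M12.isZ false (M12.cl i) = true) := by
  simp [EI]

variable {G : Type*} [Group G] [Finite G]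

/-- The first and last alternatives. -/
theorem mplus_case {s x y : G} {Q : Subgroup G} {A B : ℕ → G} (r : Rels false 0 s x y A B)
    (inj : ∀ i < 192, ∀ j < 192, el s x y A B i = el s x y A B j → i = j)
    (cen : ∀ g : G, g * s = s * g ↔ ∃ i < 192, el s x y A B i = g)
    (hQ : ∀ g : G, g ∈ Q ↔ ∃ i < 192, i % 6 = 0 ∧ el s x y A B i = g)
    {g : G} (hg : g * s * g⁻¹ ∈ Q) (hne : g * s * g⁻¹ ≠ s) :
    (∃ (N : Subgroup G) (hN : N.Normal), IsMulCommutative N ∧ (∀ n ∈ N, n ^ 2 = 1) ∧ Nat.card N = 8 ∧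
        Nonempty (G ⧸ N ≃* Matrix.ProjectiveSpecialLinearGroup (Fin 3) (ZMod 2))) ∨ Cfsg.Spor.IsoM12 G := by
  classical
  obtain ⟨h1, hsur, hz96, h6⟩ := tau_ok
  simp only [List.all_eq_true, List.mem_range, Bool.and_eq_true, decide_eq_true_eq, beq_iff_eq, Bool.or_eq_true,
    Bool.not_eq_true', beq_eq_false_iff_ne, List.any_eq_true] at h1 hsur h6
  have hl : ∀ {i : ℕ}, i < 192 → tau i < 192 := fun hi => (h1 _ hi).1
  have he96 : el s x y A B (tau M12.zI) = s := by rw [hz96]; exact (el_const r).2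
  let h : M12.Setting G :=
    { e := fun i => el s x y A B (tau i)
      inj := fun i hi j hj e => (((h1 i hi).2 j hj).2).resolve_left fun e' => e' (inj _ (hl hi) _ (hl hj) e)
      mul := fun i hi j hj => by rw [r.el_mul, ((h1 i hi).2 j hj).1]
      cen := fun a => by
        rw [he96, cen]
        constructor
        · rintro ⟨k, hk, rfl⟩
          obtain ⟨i, hi, rfl⟩ := hsur k hk
          exact ⟨i, hi, rfl⟩
        · rintro ⟨i, hi, rfl⟩
          exact ⟨_, hl hi, rfl⟩ }
  have hez : h.e M12.zI = s := he96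
  have hv : IsConj (h.e M12.zI) (h.e M12.vI) := by
    obtain ⟨k, hk, hk6, hke⟩ := (hQ _).1 hg
    obtain ⟨i, hi, rfl⟩ := hsur k hk
    have hie : h.e i = g * s * g⁻¹ := hke
    have hc : IsConj (h.e M12.zI) (h.e i) := isConj_iff.2 ⟨g, by rw [hie, hez]⟩
    have h4 := (h.sq_iff hi).1 (by rw [hie, orderOf_conj_eq, ← hez, h.ord_z])
    obtain ⟨e1, e2, e3, -⟩ := h.isConj_rep hi
    rcases h4 with e | e | e | e
    · exact absurd (by rw [← hie, e1 e, hez]) hne
    · exact hc.trans (e2 e)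
    · exact absurd (hc.trans (e3 e)).symm h.w_not_conj
    · exact absurd e ((h6 i hi).resolve_left fun e' => e' hk6)
  by_cases ho : IsConj (h.e M12.zI) (h.e M12.oI)
  · right
    obtain ⟨a⟩ := M12.iso_of_fused h hv ho
    haveI := M12.simple12
    obtain ⟨b⟩ := M12.iso_standard M12.settingM12 M12.noncomm12
    exact ⟨a.trans b.symm⟩
  left
  obtain ⟨hG, hcls⟩ := h.small_case hv ho
  obtain ⟨e8, ec, ecen, e0⟩ := eight_ok
  simp only [List.all_eq_true, Bool.and_eq_true, List.contains_eq_mem, decide_eq_true_eq, beq_iff_eq, Bool.or_eq_true,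
    Bool.not_eq_true', List.mem_range] at ec ecen
  have hEl : ∀ i ∈ EI, i < 192 := fun i hi => (mem_EI.1 hi).1
  set E : Subgroup G := M12.listSub h EI hEl e0 (fun i hi j hj => (ec i hi).1 j hj) with hE
  haveI : E.Normal := ⟨fun n hn a => by
    rw [hE, M12.mem_listSub] at hn ⊢
    obtain ⟨i, hi, rfl⟩ := hn
    rcases (mem_EI.1 hi).2 with e | e
    · exact ⟨0, e0, by rw [e, h.e_zero]; group⟩
    · have hc := (h.cls_z false ⟨fun e => absurd e (by simp), fun e => absurd e ho⟩ hv (hEl i hi)).1 e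
      obtain ⟨j, hj, hjz, hje⟩ := hcls _ (hc.trans (isConj_iff.2 ⟨a, rfl⟩))
      exact ⟨j, mem_EI.2 ⟨hj, Or.inr hjz⟩, hje⟩⟩
  refine quot_psl3 E (by rw [hE, M12.card_listSub h EI hEl e0 _ (List.nodup_range.filter _)]; exact e8)
    (fun n hn => ?_) (fun a ha => ?_) hG
  · rw [hE, M12.mem_listSub] at hn
    obtain ⟨i, hi, rfl⟩ := hn
    rw [← h.mul i (hEl i hi) i (hEl i hi), (ec i hi).2, h.e_zero]
  · have hmem : ∀ {i : ℕ}, i ∈ EI → h.e i ∈ E := fun {i} hi => by rw [hE, M12.mem_listSub]; exact ⟨i, hi, rfl⟩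
    obtain ⟨i, hi, rfl⟩ := h.mem_cent (ha _ (hmem (mem_EI.2 ⟨by decide, Or.inr (by simp [M12.isZ, M12.consts_ok.1])⟩)))
    refine hmem ((ecen i hi).resolve_left fun e => ?_)
    rw [List.all_eq_false] at e
    obtain ⟨j, hj, hje⟩ := e
    exact hje ((h.com_iff hi (hEl j hj)).1 (ha _ (hmem hj)))

end Cfsg.Agent.Invol.Cen192
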