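import Cfsg.Agent.Lib.Invol.Cen192.Rels
import Cfsg.Agent.Lib.Grp.Cores
import Cfsg.Prelude.Def_Transfer

/-! The relations hold in the centralisers considered. -/

set_option autoImplicit false
set_option linter.unusedSectionVars false
set_option linter.style.haveILetI false

namespace Cfsg.Agent.Invol.Cen192

variable {G : Type*} [Group G]

/-- The hypotheses on the centre of `Q`. -/
structure Core (s x : G) (Q : Subgroup G) : Prop where
  s2 : s * s = 1
  s1 : s ≠ 1
  sQ : s ∈ Q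
  cs : ∀ q ∈ Q, q * s = s * q
  sx : x * s = s * x
  x3 : x * x * x = 1
  xQ : ∀ q ∈ Q, x * q * x⁻¹ ∈ Q
  card : Nat.card Q = 32
  zen : ∀ q ∈ Q, (∀ r ∈ Q, q * r = r * q) → q = 1 ∨ q = s
  der : ∀ q ∈ Q, ∀ r ∈ Q, q * r = r * q ∨ q * r = r * q * s
  fix : ∀ q ∈ Q, x * q * x⁻¹ = q → q = 1 ∨ q = s

theorem q8_rels {s a0 a1 a2 : G} (hs : s * s = 1) (c0 : a0 * s = s * a0) (c1 : a1 * s = s * a1)
    (c2 : a2 * s = s * a2) (s0 : a0 * a0 = s) (s1 : a1 * a1 = s) (s2 : a2 * a2 = s)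
    (p01 : a0 * a1 = a2) (p12 : a1 * a2 = a0) (p20 : a2 * a0 = a1) :
    ∀ k < 4, ∀ l < 4, tri a0 a1 a2 k * tri a0 a1 a2 l = tri a0 a1 a2 (q8 k l).1 * bit s (q8 k l).2 := by
  have inv0 : a0⁻¹ = a0 * s := inv_eq_of_mul_eq_one_right (by rw [← mul_assoc, s0, hs])
  have inv1 : a1⁻¹ = a1 * s := inv_eq_of_mul_eq_one_right (by rw [← mul_assoc, s1, hs])
  have inv2 : a2⁻¹ = a2 * s := inv_eq_of_mul_eq_one_right (by rw [← mul_assoc, s2, hs])
  have sinv : s⁻¹ = s := inv_eq_of_mul_eq_one_right hs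
  have rev : ∀ {a b c : G}, a * a = s → b * b = s → c⁻¹ = c * s → a * s = s * a → a * b = c → b * a = c * s := by
    intro a b c ha hb hc hsa hab
    rw [← hc, ← hab, mul_inv_rev, inv_eq_of_mul_eq_one_right (show b * (b * s) = 1 by rw [← mul_assoc, hb, hs]),
      inv_eq_of_mul_eq_one_right (show a * (a * s) = 1 by rw [← mul_assoc, ha, hs])]
    calc b * a = b * (a * (s * s)) := by rw [hs, mul_one]
      _ = b * (a * s) * s := by group
      _ = b * (s * a) * s := by rw [hsa]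
      _ = b * s * (a * s) := by group
  intro k hk l hl
  interval_cases k <;> interval_cases l <;>
    simp [tri, q8, bit, s0, s1, s2, p01, p12, p20, rev s0 s1 inv2 c0 p01, rev s1 s2 inv0 c1 p12,
      rev s2 s0 inv1 c2 p20]

namespace Core

variable {s x : G} {Q : Subgroup G} (c : Core s x Q)
include c

theorem sq {q : G} (hq : q ∈ Q) : q * q = 1 ∨ q * q = s := by
  refine c.zen _ (mul_mem hq hq) fun r hr => ?_
  rcases c.der q hq r hr with e | e
  · calc q * q * r = q * (q * r) := mul_assoc _ _ _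
      _ = r * (q * q) := by rw [e, ← mul_assoc, e, mul_assoc]
  · calc q * q * r = q * (q * r) := mul_assoc _ _ _
      _ = (q * r) * (q * s) := by nth_rewrite 1 [e]; group
      _ = r * q * (s * q) * s := by rw [e]; group
      _ = r * (q * q) * (s * s) := by rw [← c.cs q hq]; group
      _ = r * (q * q) := by rw [c.s2, mul_one]

/-- A quaternion subgroup from an element with square `s`. -/
theorem orient {a : G} (ha : a ∈ Q) (h2 : a * a = s) :
    ∃ a0 a1 a2 : G, a0 ∈ Q ∧ a1 ∈ Q ∧ a2 ∈ Q ∧ (a0 = a ∨ a0 = a * s) ∧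
      x * a0 * x⁻¹ = a1 ∧ x * a1 * x⁻¹ = a2 ∧ x * a2 * x⁻¹ = a0 ∧
      a0 * a0 = s ∧ a1 * a1 = s ∧ a2 * a2 = s ∧ a0 * a1 = a2 ∧ a1 * a2 = a0 ∧ a2 * a0 = a1 := by
  have rotm : ∀ {q r : G}, x * (q * r) * x⁻¹ = (x * q * x⁻¹) * (x * r * x⁻¹) := fun {q r} => by group
  have hxs : x * s * x⁻¹ = s := mul_inv_eq_iff_eq_mul.2 c.sx
  have rot3 : ∀ q : G, x * (x * (x * q * x⁻¹) * x⁻¹) * x⁻¹ = q := fun q => by
    calc x * (x * (x * q * x⁻¹) * x⁻¹) * x⁻¹ = (x * x * x) * q * (x * x * x)⁻¹ := by group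
      _ = q := by rw [c.x3]; group
  set b := x * a * x⁻¹ with hb
  set d := x * b * x⁻¹ with hd
  have hbQ : b ∈ Q := c.xQ a ha
  have hdQ : d ∈ Q := c.xQ b hbQ
  have hd3 : x * d * x⁻¹ = a := rot3 a
  have hb2 : b * b = s := by rw [hb, ← rotm, h2, hxs]
  have hd2 : d * d = s := by rw [hd, ← rotm, hb2, hxs]
  -- the product of the three is fixed modulo `s`
  have hp : a * b * d = 1 ∨ a * b * d = s := by
    have hm : a * b * d ∈ Q := mul_mem (mul_mem ha hbQ) hdQ
    have e1 : x * (a * b * d) * x⁻¹ = b * d * a := by rw [rotm, rotm, ← hb, ← hd, hd3]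
    rcases c.der a ha (b * d) (mul_mem hbQ hdQ) with e | e
    · refine c.fix _ hm ?_
      rw [e1, mul_assoc a]; exact e.symm
    · exfalso
      have h3 : x * (a * b * d) * x⁻¹ = a * b * d * s := by
        rw [e1, mul_assoc a b d, e, mul_assoc (b * d * a), c.s2, mul_one]
      have := rot3 (a * b * d)
      rw [h3, rotm (q := a * b * d) (r := s), h3, hxs, mul_assoc (a * b * d) s s, c.s2, mul_one, h3] at this
      apply c.s1
      exact mul_eq_left.1 this
  have fin : ∀ a0 a1 a2 : G, a0 ∈ Q → a1 ∈ Q → a2 ∈ Q → (a0 = a ∨ a0 = a * s) → x * a0 * x⁻¹ = a1 →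
      x * a1 * x⁻¹ = a2 → a0 * a0 = s → a1 * a1 = s → a2 * a2 = s → a0 * a1 * a2 = s →
      ∃ a0 a1 a2 : G, a0 ∈ Q ∧ a1 ∈ Q ∧ a2 ∈ Q ∧ (a0 = a ∨ a0 = a * s) ∧
        x * a0 * x⁻¹ = a1 ∧ x * a1 * x⁻¹ = a2 ∧ x * a2 * x⁻¹ = a0 ∧
        a0 * a0 = s ∧ a1 * a1 = s ∧ a2 * a2 = s ∧ a0 * a1 = a2 ∧ a1 * a2 = a0 ∧ a2 * a0 = a1 := by
    intro a0 a1 a2 m0 m1 m2 h0 r0 r1 q0 q1 q2 h3
    have h01 : a0 * a1 = a2 := by
      rw [← mul_left_inj a2, h3, q2]
    have h12 : a1 * a2 = a0 := by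
      have := congrArg (fun t => x * t * x⁻¹) h01
      simp only [rotm, r0, r1] at this
      rw [this, ← r1, ← r0]; exact rot3 a0
    have r2 : x * a2 * x⁻¹ = a0 := by rw [← r1, ← r0]; exact rot3 a0
    have h20 : a2 * a0 = a1 := by
      have := congrArg (fun t => x * t * x⁻¹) h12
      simp only [rotm, r0, r1, r2] at this
      exact this
    exact ⟨a0, a1, a2, m0, m1, m2, h0, r0, r1, by rw [← r1, ← r0]; exact rot3 a0, q0, q1, q2, h01, h12, h20⟩
  have hsq : ∀ {u : G}, u ∈ Q → u * u = s → u * s * (u * s) = s := fun {u} hu h => by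
    calc u * s * (u * s) = u * (s * u) * s := by group
      _ = (u * u) * (s * s) := by rw [← c.cs u hu]; group
      _ = s := by rw [h, c.s2, mul_one]
  rcases hp with e | e
  · refine fin (a * s) (b * s) (d * s) (mul_mem ha c.sQ) (mul_mem hbQ c.sQ) (mul_mem hdQ c.sQ) (Or.inr rfl)
      (by rw [rotm, ← hb, hxs]) (by rw [rotm, ← hd, hxs]) ?_ ?_ ?_ ?_
    · exact hsq ha h2
    · exact hsq hbQ hb2
    · exact hsq hdQ hd2
    · calc a * s * (b * s) * (d * s) = a * (s * b) * (s * d) * s := by group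
        _ = a * b * (s * (d * s)) * s := by rw [← c.cs b hbQ, ← c.cs d hdQ]; group
        _ = a * b * (s * s) * d * s := by rw [c.cs d hdQ]; group
        _ = s := by rw [c.s2, mul_one, e, one_mul]
  · exact fin a b d ha hbQ hdQ (Or.inl rfl) rfl rfl h2 hb2 hd2 e

theorem exists_root : ∃ a ∈ Q, a * a = s := by
  by_contra h
  push Not at h
  have h1 : ∀ q ∈ Q, q * q = 1 := fun q hq => (c.sq hq).resolve_right (h q hq)
  have hle : (Q : Set G) ⊆ {1, s} := fun q hq => by
    rcases c.zen q hq fun r hr => by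
      calc q * r = r * r * (q * r) * (q * q) := by rw [h1 r hr, h1 q hq, one_mul, mul_one]
        _ = r * ((r * q) * (r * q)) * q := by group
        _ = r * q := by rw [h1 _ (mul_mem hr hq), mul_one] with e | e <;> simp [e]
  have := Set.ncard_le_ncard hle (by simp)
  have h32 : (Q : Set G).ncard = 32 := by rw [← Nat.card_coe_set_eq]; exact c.card
  rw [h32] at this
  have h2 : ({1, s} : Set G).ncard ≤ 2 := (Set.ncard_insert_le _ _).trans (by simp)
  omega

/-- An element of `Q` commuting with `a` and `b`, modulo `⟨a, b⟩`. -/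
theorem correct {a b q : G} (ha : a ∈ Q) (hb : b ∈ Q) (hab : a * b = b * a * s) (hq : q ∈ Q) :
    ∃ r ∈ Subgroup.closure ({a, b} : Set G), q * r * a = a * (q * r) ∧ q * r * b = b * (q * r) := by
  have ma : a ∈ Subgroup.closure ({a, b} : Set G) := Subgroup.subset_closure (by simp)
  have mb : b ∈ Subgroup.closure ({a, b} : Set G) := Subgroup.subset_closure (by simp)
  have twice : ∀ {u v w : G}, v ∈ Q → w ∈ Q → u * w = w * u * s → v * w = w * v * s → u * v * w = w * (u * v) := by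
    intro u v w hv _ h1 h2
    calc u * v * w = u * (v * w) := mul_assoc _ _ _
      _ = (u * w) * (v * s) := by rw [h2]; group
      _ = w * u * (s * v) * s := by rw [h1]; group
      _ = w * (u * v) * (s * s) := by rw [← c.cs v hv]; group
      _ = w * (u * v) := by rw [c.s2, mul_one]
  have once : ∀ {u v w : G}, u * w = w * u → v * w = w * v → u * v * w = w * (u * v) := by
    intro u v w h1 h2
    rw [mul_assoc, h2, ← mul_assoc, h1, mul_assoc]
  have hba : b * a = a * b * s := by rw [hab, mul_assoc, c.s2, mul_one]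
  -- first commute with `a`
  obtain ⟨r1, m1, hr1Q, h1⟩ : ∃ r1 ∈ Subgroup.closure ({a, b} : Set G), r1 ∈ Q ∧ q * r1 * a = a * (q * r1) := by
    rcases c.der q hq a ha with e | e
    · exact ⟨1, one_mem _, one_mem _, by rw [mul_one, e]⟩
    · exact ⟨b, mb, hb, twice hb ha e hba⟩
  rcases c.der (q * r1) (mul_mem hq hr1Q) b hb with e | e
  · exact ⟨r1, m1, h1, e⟩
  · exact ⟨r1 * a, mul_mem m1 ma, by rw [← mul_assoc]; exact once h1 rfl,
      by rw [← mul_assoc]; exact twice ha hb e hab⟩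

end Core

/-- The subgroup given by a table for a quaternion group. -/
def q8sub {s a0 a1 a2 : G} (hs : s * s = 1) (cs : ∀ k < 4, tri a0 a1 a2 k * s = s * tri a0 a1 a2 k)
    (hm : ∀ k < 4, ∀ l < 4, tri a0 a1 a2 k * tri a0 a1 a2 l = tri a0 a1 a2 (q8 k l).1 * bit s (q8 k l).2) :
    Subgroup G where
  carrier := {g | ∃ k < 4, ∃ c < 2, g = tri a0 a1 a2 k * bit s c}
  one_mem' := ⟨0, by norm_num, 0, by norm_num, by simp [tri, bit]⟩
  mul_mem' := by
    rintro _ _ ⟨k, hk, c, -, rfl⟩ ⟨l, hl, d, -, rfl⟩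
    refine ⟨(q8 k l).1, q8_lt _ hk _ hl, ((q8 k l).2 + c + d) % 2, Nat.mod_lt _ (by norm_num), ?_⟩
    rw [bit_mod, bit_add hs, bit_add hs]
    calc tri a0 a1 a2 k * bit s c * (tri a0 a1 a2 l * bit s d)
        = tri a0 a1 a2 k * (bit s c * tri a0 a1 a2 l) * bit s d := by group
      _ = (tri a0 a1 a2 k * tri a0 a1 a2 l) * (bit s c * bit s d) := by rw [← bit_comm (cs l hl)]; group
      _ = _ := by rw [hm k hk l hl]; group
  inv_mem' := by
    rintro _ ⟨k, hk, c, -, rfl⟩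
    refine ⟨k, hk, (c + nz k) % 2, Nat.mod_lt _ (by norm_num), inv_eq_of_mul_eq_one_right ?_⟩
    have hkk : q8 k k = (0, nz k) := by interval_cases k <;> rfl
    rw [bit_mod, bit_add hs]
    calc tri a0 a1 a2 k * bit s c * (tri a0 a1 a2 k * (bit s c * bit s (nz k)))
        = tri a0 a1 a2 k * (bit s c * tri a0 a1 a2 k) * bit s c * bit s (nz k) := by group
      _ = (tri a0 a1 a2 k * tri a0 a1 a2 k) * (bit s c * bit s c) * bit s (nz k) := by
          rw [← bit_comm (cs k hk)]; group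
      _ = 1 := by
          rw [hm k hk k hk, hkk, ← bit_add hs c c, show bit s (c + c) = 1 by simp [bit, show (c + c) % 2 = 0 by omega],
            mul_one, mul_assoc, ← bit_add hs, show bit s (nz k + nz k) = 1 by
              simp [bit, show (nz k + nz k) % 2 = 0 by omega]]
          simp [tri]

theorem rot_tri {x a0 a1 a2 : G} (r0 : x * a0 * x⁻¹ = a1) (r1 : x * a1 * x⁻¹ = a2) (r2 : x * a2 * x⁻¹ = a0) :
    ∀ k < 4, x * tri a0 a1 a2 k * x⁻¹ = tri a0 a1 a2 (rot k 1) := by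
  intro k hk
  interval_cases k <;> simp [tri, rot, r0, r1, r2]

end Cfsg.Agent.Invol.Cen192
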