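import Cfsg.Agent.Lib.Invol.Cen192.Derive

/-! Existence of the relations. -/

set_option autoImplicit false
set_option linter.unusedSectionVars false
set_option linter.style.haveILetI false

namespace Cfsg.Agent.Invol.Cen192

variable {G : Type*} [Group G]

/-- An oriented triple rotated by `x`. -/
structure Trip (s x : G) (Q : Subgroup G) (a0 a1 a2 : G) : Prop where
  m0 : a0 ∈ Q
  m1 : a1 ∈ Q
  m2 : a2 ∈ Q
  r0 : x * a0 * x⁻¹ = a1
  r1 : x * a1 * x⁻¹ = a2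
  r2 : x * a2 * x⁻¹ = a0
  q0 : a0 * a0 = s
  q1 : a1 * a1 = s
  q2 : a2 * a2 = s
  p01 : a0 * a1 = a2
  p12 : a1 * a2 = a0
  p20 : a2 * a0 = a1

namespace Trip

variable {s x : G} {Q : Subgroup G} {a0 a1 a2 : G} (A : Trip s x Q a0 a1 a2)
include A

theorem next : Trip s x Q a1 a2 a0 :=
  ⟨A.m1, A.m2, A.m0, A.r1, A.r2, A.r0, A.q1, A.q2, A.q0, A.p12, A.p20, A.p01⟩

theorem mem (k : ℕ) : tri a0 a1 a2 k ∈ Q := by
  unfold tri
  split <;> first | exact A.m0 | exact A.m1 | exact A.m2 | exact one_mem _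

theorem table (c : Core s x Q) :
    ∀ k < 4, ∀ l < 4, tri a0 a1 a2 k * tri a0 a1 a2 l = tri a0 a1 a2 (q8 k l).1 * bit s (q8 k l).2 :=
  q8_rels c.s2 (c.cs _ A.m0) (c.cs _ A.m1) (c.cs _ A.m2) A.q0 A.q1 A.q2 A.p01 A.p12 A.p20

theorem rev (c : Core s x Q) : a0 * a2 = a1 * s := by
  simpa [tri, q8, bit] using A.table c 1 (by norm_num) 3 (by norm_num)

theorem sq_tri (c : Core s x Q) {k : ℕ} (hk : k < 4) : tri a0 a1 a2 k * tri a0 a1 a2 k = bit s (nz k) := by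
  rw [A.table c k hk k hk]
  interval_cases k <;> simp [q8, tri, nz]

/-- The inverting element maps an oriented triple to one with reversed rotation. -/
theorem map_y (c : Core s x Q) {b0 b1 b2 y : G} (B : Trip s x Q b0 b1 b2) (hy : y * x * y⁻¹ = x⁻¹)
    (sy : y * s = s * y) {e : G} (he : e = 1 ∨ e = s) (h0 : y * a0 * y⁻¹ = b0 * e) :
    e = s ∧ y * a0 * y⁻¹ = b0 * s ∧ y * a1 * y⁻¹ = b2 * s ∧ y * a2 * y⁻¹ = b1 * s := by
  have xe : ∀ {u : G}, x⁻¹ * (u * e) * x = x⁻¹ * u * x * e := fun {u} => by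
    rcases he with rfl | rfl
    · group
    · calc x⁻¹ * (u * e) * x = x⁻¹ * u * (e * x) := by group
        _ = _ := by rw [← c.sx]; group
  have step : ∀ {u v v' : G}, y * u * y⁻¹ = v * e → x * v' * x⁻¹ = v → y * (x * u * x⁻¹) * y⁻¹ = v' * e := by
    intro u v v' h1 h2
    calc y * (x * u * x⁻¹) * y⁻¹ = (y * x * y⁻¹) * (y * u * y⁻¹) * (y * x * y⁻¹)⁻¹ := by group
      _ = x⁻¹ * (v * e) * x := by rw [hy, h1, inv_inv]
      _ = v' * e := by rw [xe, ← h2]; group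
  have h1 : y * a1 * y⁻¹ = b2 * e := A.r0 ▸ step h0 B.r2
  have h2 : y * a2 * y⁻¹ = b1 * e := A.r1 ▸ step h1 B.r1
  have key : b0 * e * (b2 * e) = b1 * e := by
    rw [← h0, ← h1, ← h2, ← A.p01]; group
  have hes : e = s := by
    rcases he with rfl | rfl
    · exfalso
      rw [mul_one, mul_one, mul_one, B.rev c] at key
      exact c.s1 (mul_eq_left.1 key)
    · rfl
  subst hes
  exact ⟨rfl, h0, h1, h2⟩

end Trip

/-- Two commuting oriented triples fill the subgroup. -/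
theorem pair_spec {s x : G} {Q : Subgroup G} (c : Core s x Q) {a0 a1 a2 b0 b1 b2 : G}
    (A : Trip s x Q a0 a1 a2) (B : Trip s x Q b0 b1 b2)
    (hAB : ∀ k < 4, ∀ l < 4, tri a0 a1 a2 k * tri b0 b1 b2 l = tri b0 b1 b2 l * tri a0 a1 a2 k) :
    (∀ p q : ℕ × ℕ × ℕ, p.1 < 4 → p.2.1 < 4 → p.2.2 < 2 → q.1 < 4 → q.2.1 < 4 → q.2.2 < 2 →
      qel s (tri a0 a1 a2) (tri b0 b1 b2) p = qel s (tri a0 a1 a2) (tri b0 b1 b2) q → p = q) ∧
    ∀ g ∈ Q, ∃ p : ℕ × ℕ × ℕ, p.1 < 4 ∧ p.2.1 < 4 ∧ p.2.2 < 2 ∧ g = qel s (tri a0 a1 a2) (tri b0 b1 b2) p := by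
  classical
  set a := tri a0 a1 a2 with ha
  set b := tri b0 b1 b2 with hb
  have mA : ∀ k < 4, ∀ l < 4, a k * a l = a (q8 k l).1 * bit s (q8 k l).2 := A.table c
  have mB : ∀ k < 4, ∀ l < 4, b k * b l = b (q8 k l).1 * bit s (q8 k l).2 := B.table c
  have sqA : ∀ k < 4, a k * a k = bit s (nz k) := fun k hk => A.sq_tri c hk
  have sqB : ∀ k < 4, b k * b k = bit s (nz k) := fun k hk => B.sq_tri c hk
  have cA : ∀ k < 4, a k * s = s * a k := fun k _ => c.cs _ (A.mem k)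
  have cB : ∀ k < 4, b k * s = s * b k := fun k _ => c.cs _ (B.mem k)
  have hne : ∀ {T : ℕ → G}, (∀ k < 4, T k * T k = bit s (nz k)) → ∀ l, 0 < l → l < 4 → ∀ d, T l ≠ bit s d := by
    intro T hT l hl hl4 d e
    have h1 := hT l hl4
    rw [e, show nz l = 1 by simp [nz]; omega, ← bit_add c.s2, bit, if_pos (by omega), bit, if_neg (by norm_num)] at h1
    exact c.s1 h1.symm
  have hAcomm : ∀ {k : ℕ}, k < 4 → (∀ l < 4, a k * a l = a l * a k) → k = 0 := by
    intro k hk h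
    by_contra h0
    have key : ∀ k' < 4, 0 < k' → (q8 k' (k' % 3 + 1)).1 = (q8 (k' % 3 + 1) k').1 ∧
        (q8 k' (k' % 3 + 1)).2 + (q8 (k' % 3 + 1) k').2 = 1 ∧ k' % 3 + 1 < 4 := by decide
    obtain ⟨e1, e2, e3⟩ := key k hk (by omega)
    have h1 := h _ e3
    rw [mA k hk _ e3, mA _ e3 k hk, ← e1, mul_right_inj] at h1
    have h01 : (q8 k (k % 3 + 1)).2 = 0 ∧ (q8 (k % 3 + 1) k).2 = 1 ∨
        (q8 k (k % 3 + 1)).2 = 1 ∧ (q8 (k % 3 + 1) k).2 = 0 := by omega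
    rcases h01 with ⟨u, v⟩ | ⟨u, v⟩ <;> rw [u, v] at h1 <;> simp [bit] at h1
    · exact c.s1 h1.symm
    · exact c.s1 h1
  have inj : ∀ p q : ℕ × ℕ × ℕ, p.1 < 4 → p.2.1 < 4 → p.2.2 < 2 → q.1 < 4 → q.2.1 < 4 → q.2.2 < 2 →
      qel s a b p = qel s a b q → p = q := by
    rintro ⟨k, l, d⟩ ⟨k', l', d'⟩ hk hl hd hk' hl' hd' e
    simp only at hk hl hd hk' hl' hd'
    -- `a k' ⁻¹ a k` lies in both factors
    obtain ⟨k'', c'', hk'', e''⟩ : ∃ k'' c'', k'' < 4 ∧ (a k')⁻¹ * a k = a k'' * bit s c'' := by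
      refine ⟨(q8 k' k).1, (q8 k' k).2 + nz k', q8_lt _ hk' _ hk, ?_⟩
      have h1 : (a k')⁻¹ = bit s (nz k') * a k' := inv_eq_of_mul_eq_one_left (by
        rw [mul_assoc, A.sq_tri c hk', ← bit_add c.s2]
        simp [bit, show (nz k' + nz k') % 2 = 0 by omega])
      rw [h1, mul_assoc, mA _ hk' _ hk, bit_add c.s2, ← mul_assoc, ← bit_comm (cA _ (q8_lt _ hk' _ hk))]
      rw [mul_assoc]
      congr 1
      rw [← bit_add c.s2, ← bit_add c.s2, Nat.add_comm]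
    have h2 : (a k')⁻¹ * a k = b l' * bit s d' * (bit s d)⁻¹ * (b l)⁻¹ := by
      simp only [qel] at e
      calc (a k')⁻¹ * a k = (a k')⁻¹ * (a k * b l * bit s d) * (bit s d)⁻¹ * (b l)⁻¹ := by group
        _ = _ := by rw [e]; group
    have hcen : ∀ m < 4, ((a k')⁻¹ * a k) * a m = a m * ((a k')⁻¹ * a k) := by
      intro m hm
      have c1 : Commute (a m) (b l') := hAB m hm l' hl'
      have c2 : Commute (a m) (b l) := hAB m hm l hl
      have c3 : ∀ i, Commute (a m) (bit s i) := fun i => bit_comm (cA m hm) i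
      rw [h2]
      exact ((((c1.mul_right (c3 d')).mul_right (c3 d).inv_right).mul_right c2.inv_right)).symm.eq
    have hk0 : k'' = 0 := hAcomm hk'' fun m hm => by
      have := hcen m hm
      rw [e''] at this
      calc a k'' * a m = a k'' * bit s c'' * a m * (bit s c'')⁻¹ := by
            rw [mul_assoc _ (bit s c''), ← bit_comm (cA m hm)]; group
        _ = a m * (a k'' * bit s c'') * (bit s c'')⁻¹ := by rw [this]
        _ = a m * a k'' := by group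
    have hkk : k = k' := by
      by_contra hkk
      have : ∀ p < 4, ∀ q < 4, p ≠ q → (q8 q p).1 ≠ 0 := by decide
      have h3 : a k = a k' * bit s c'' := by
        rw [hk0, show a 0 = 1 from rfl, one_mul] at e''
        rw [← e'']; group
      have h4 := mA k' hk' k hk
      rw [h3, ← mul_assoc, sqA _ hk', ← bit_add c.s2] at h4
      refine hne (T := a) (fun _ hm => A.sq_tri c hm) _ (Nat.pos_of_ne_zero (this k hk k' hk' hkk)) (q8_lt _ hk' _ hk)
        (nz k' + c'' + (q8 k' k).2) ?_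
      rw [bit_add c.s2 (nz k' + c''), h4, mul_assoc, ← bit_add c.s2]
      simp [bit, show ((q8 k' k).2 + (q8 k' k).2) % 2 = 0 by omega]
    subst hkk
    have h5 : b l * bit s d = b l' * bit s d' := by
      simp only [qel, mul_assoc] at e
      exact mul_left_cancel e
    have hll : l = l' := by
      by_contra hll
      have : ∀ p < 4, ∀ q < 4, p ≠ q → (q8 q p).1 ≠ 0 := by decide
      have h6 := mB l' hl' l hl
      have h7 : b l = b l' * (bit s d' * (bit s d)⁻¹) := by rw [← mul_assoc, ← h5]; group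
      rw [h7, ← mul_assoc, sqB _ hl'] at h6
      refine hne (T := b) (fun _ hm => B.sq_tri c hm) _ (Nat.pos_of_ne_zero (this l hl l' hl' hll)) (q8_lt _ hl' _ hl)
        (nz l' + (d' + d) + (q8 l' l).2) ?_
      have hinv : (bit s d)⁻¹ = bit s d := inv_eq_of_mul_eq_one_right (by
        rw [← bit_add c.s2]; simp [bit, show (d + d) % 2 = 0 by omega])
      rw [hinv, ← bit_add c.s2, ← bit_add c.s2] at h6
      rw [bit_add c.s2 (nz l' + (d' + d)), h6, mul_assoc, ← bit_add c.s2]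
      simp [bit, show ((q8 l' l).2 + (q8 l' l).2) % 2 = 0 by omega]
    subst hll
    have h8 : bit s d = bit s d' := mul_left_cancel h5
    refine Prod.ext rfl (Prod.ext rfl ?_)
    show d = d'
    interval_cases d <;> interval_cases d' <;> simp [bit] at h8 ⊢
    · exact c.s1 h8.symm
    · exact c.s1 h8
  refine ⟨inj, fun g hg => ?_⟩
  have hmem : ∀ p : ℕ × ℕ × ℕ, qel s a b p ∈ Q := fun p => by
    refine mul_mem (mul_mem (A.mem _) (B.mem _)) ?_
    unfold bit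
    split <;> [exact one_mem _; exact c.sQ]
  let F : Fin 4 × Fin 4 × Fin 2 → Q := fun p => ⟨qel s a b (p.1, p.2.1, p.2.2), hmem _⟩
  haveI : Finite Q := Nat.finite_of_card_ne_zero (by rw [c.card]; norm_num)
  have hF : Function.Bijective F := by
    rw [Nat.bijective_iff_injective_and_card]
    refine ⟨fun p q e => ?_, by simp [c.card]⟩
    have := inj _ _ p.1.isLt p.2.1.isLt p.2.2.isLt q.1.isLt q.2.1.isLt q.2.2.isLt (congrArg Subtype.val e)
    simp only [Prod.mk.injEq] at this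
    exact Prod.ext (Fin.ext this.1) (Prod.ext (Fin.ext this.2.1) (Fin.ext this.2.2))
  obtain ⟨p, hp⟩ := hF.2 ⟨g, hg⟩
  exact ⟨(p.1, p.2.1, p.2.2), p.1.isLt, p.2.1.isLt, p.2.2.isLt, (congrArg Subtype.val hp).symm⟩

theorem conj_mul'' {y p q : G} : y * (p * q) * y⁻¹ = y * p * y⁻¹ * (y * q * y⁻¹) := by group

/-- The relations hold for suitable bases. -/
theorem exists_rels {s x y : G} {Q : Subgroup G} (c : Core s x Q) (hy : y * x * y⁻¹ = x⁻¹)
    (sy : y * s = s * y) (yQ : ∀ q ∈ Q, y * q * y⁻¹ ∈ Q) (hyy : y * y = 1 ∨ y * y = s) :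
    ∃ (sw : Bool) (sq : ℕ) (A B : ℕ → G), sq < 2 ∧ Rels sw sq s x y A B ∧ (∀ k, A k ∈ Q ∧ B k ∈ Q) ∧
      (∀ p q : ℕ × ℕ × ℕ, p.1 < 4 → p.2.1 < 4 → p.2.2 < 2 → q.1 < 4 → q.2.1 < 4 → q.2.2 < 2 →
        qel s A B p = qel s A B q → p = q) ∧
      ∀ g ∈ Q, ∃ p : ℕ × ℕ × ℕ, p.1 < 4 ∧ p.2.1 < 4 ∧ p.2.2 < 2 ∧ g = qel s A B p := by
  classical
  obtain ⟨a, ha, ha2⟩ := c.exists_root
  obtain ⟨a0, a1, a2, m0, m1, m2, -, r0, r1, r2, q0, q1, q2, p01, p12, p20⟩ := c.orient ha ha2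
  have A : Trip s x Q a0 a1 a2 := ⟨m0, m1, m2, r0, r1, r2, q0, q1, q2, p01, p12, p20⟩
  set SA := q8sub c.s2 (fun k _ => c.cs _ (A.mem k)) (A.table c) with hSA
  -- an element outside the first quaternion group commuting with it
  obtain ⟨q, hq, hqS⟩ : ∃ q ∈ Q, q ∉ SA := by
    by_contra hcon
    push Not at hcon
    have hsub : (Q : Set G) ⊆ (fun p : Fin 4 × Fin 2 => tri a0 a1 a2 p.1 * bit s p.2) '' Set.univ := by
      intro g hg
      obtain ⟨k, hk, d, hd, e⟩ := hcon g hg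
      exact ⟨(⟨k, hk⟩, ⟨d, hd⟩), trivial, e.symm⟩
    have h1 := Set.ncard_le_ncard hsub (Set.toFinite _)
    have h2 := Set.ncard_image_le (s := (Set.univ : Set (Fin 4 × Fin 2)))
      (f := fun p => tri a0 a1 a2 p.1 * bit s p.2)
    rw [← Nat.card_coe_set_eq] at h1
    simp [Set.ncard_univ, Set.image_univ] at h1 h2
    have := c.card
    omega
  have h01 : a0 * a1 = a1 * a0 * s := by
    have h10 := A.table c 2 (by norm_num) 1 (by norm_num)
    simp [tri, q8, bit] at h10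
    rw [p01, h10, mul_assoc, c.s2, mul_one]
  have hS0 : a0 ∈ SA := ⟨1, by norm_num, 0, by norm_num, by simp [tri, bit]⟩
  have hS1 : a1 ∈ SA := ⟨2, by norm_num, 0, by norm_num, by simp [tri, bit]⟩
  have corr : ∀ q ∈ Q, ∃ r ∈ SA, r ∈ Q ∧ ∀ k < 4, q * r * tri a0 a1 a2 k = tri a0 a1 a2 k * (q * r) := by
    intro q hq
    obtain ⟨r, hr, h0, h1⟩ := c.correct m0 m1 h01 hq
    have hrS : r ∈ SA := (Subgroup.closure_le _).2 (by
      rintro g (rfl | rfl)
      exacts [hS0, hS1]) hr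
    refine ⟨r, hrS, (Subgroup.closure_le _).2 (by
      rintro g (rfl | rfl)
      exacts [m0, m1]) hr, fun k hk => ?_⟩
    interval_cases k
    · simp [tri]
    · exact h0
    · exact h1
    · show q * r * a2 = a2 * (q * r)
      rw [← p01, ← mul_assoc, h0, mul_assoc, h1, ← mul_assoc]
  obtain ⟨r, hrS, hrQ, hb⟩ := corr q hq
  have hbS : q * r ∉ SA := fun e => hqS (by simpa using mul_mem e (inv_mem hrS))
  have hsS : s ∈ SA := ⟨0, by norm_num, 1, by norm_num, by simp [tri, bit]⟩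
  obtain ⟨b, hbQ, hb2, hbA⟩ : ∃ b ∈ Q, b * b = s ∧ ∀ k < 4, b * tri a0 a1 a2 k = tri a0 a1 a2 k * b := by
    set b := q * r with hbdef
    have hbQ : b ∈ Q := mul_mem hq hrQ
    rcases c.sq hbQ with e | e
    · obtain ⟨t, ht, htb⟩ : ∃ t ∈ Q, b * t ≠ t * b := by
        by_contra hcon
        push Not at hcon
        rcases c.zen b hbQ hcon with e | e
        · exact hbS (e ▸ one_mem _)
        · exact hbS (e ▸ hsS)
      obtain ⟨u, huS, huQ, hu⟩ := corr t ht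
      have hbu : b * u = u * b := by
        obtain ⟨k, hk, d, -, rfl⟩ := huS
        rw [← mul_assoc, hb k hk, mul_assoc, bit_comm (c.cs b hbQ), mul_assoc]
      have htu : t * u * b ≠ b * (t * u) := fun e' => htb (by
        calc b * t = b * (t * u) * u⁻¹ := by group
          _ = t * (u * b) * u⁻¹ := by rw [← e']; group
          _ = t * b := by rw [← hbu]; group)
      have htuQ : t * u ∈ Q := mul_mem ht huQ
      rcases c.sq htuQ with e' | e'
      · refine ⟨b * (t * u), mul_mem hbQ htuQ, ?_, fun k hk => ?_⟩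
        · rcases c.der (t * u) htuQ b hbQ with e'' | e''
          · exact absurd e'' htu
          · calc b * (t * u) * (b * (t * u)) = b * (t * u * b) * (t * u) := by group
              _ = b * b * (t * u) * (s * (t * u)) := by rw [e'']; group
              _ = b * b * ((t * u) * (t * u)) * s := by rw [← c.cs _ htuQ]; group
              _ = s := by rw [e, e', one_mul, one_mul]
        · rw [mul_assoc, hu k hk, ← mul_assoc, hb k hk, mul_assoc]
      · exact ⟨t * u, htuQ, e', hu⟩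
    · exact ⟨b, hbQ, e, hb⟩
  obtain ⟨b0, b1, b2, n0, n1, n2, hb0, t0, t1, t2, u0, u1, u2, v01, v12, v20⟩ := c.orient hbQ hb2
  have B : Trip s x Q b0 b1 b2 := ⟨n0, n1, n2, t0, t1, t2, u0, u1, u2, v01, v12, v20⟩
  have hA0 : ∀ k < 4, b0 * tri a0 a1 a2 k = tri a0 a1 a2 k * b0 := fun k hk => by
    rcases hb0 with rfl | rfl
    · exact hbA k hk
    · rw [mul_assoc, ← c.cs _ (A.mem k), ← mul_assoc, hbA k hk, mul_assoc]
  have rotA : ∀ k < 4, x * tri a0 a1 a2 k * x⁻¹ = tri a0 a1 a2 (rot k 1) := rot_tri r0 r1 r2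
  have preA : ∀ k < 4, ∃ k' < 4, rot k' 1 = k := by decide
  have move : ∀ {u : G}, (∀ k < 4, u * tri a0 a1 a2 k = tri a0 a1 a2 k * u) →
      ∀ k < 4, x * u * x⁻¹ * tri a0 a1 a2 k = tri a0 a1 a2 k * (x * u * x⁻¹) := by
    intro u hu k hk
    obtain ⟨k', hk', rfl⟩ := preA k hk
    rw [← rotA k' hk']
    calc x * u * x⁻¹ * (x * tri a0 a1 a2 k' * x⁻¹) = x * (u * tri a0 a1 a2 k') * x⁻¹ := by group
      _ = _ := by rw [hu k' hk']; group
  have hAB : ∀ k < 4, ∀ l < 4, tri a0 a1 a2 k * tri b0 b1 b2 l = tri b0 b1 b2 l * tri a0 a1 a2 k := by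
    intro k hk l hl
    interval_cases l
    · simp [tri]
    · exact (hA0 k hk).symm
    · show tri a0 a1 a2 k * b1 = b1 * tri a0 a1 a2 k
      rw [← t0]; exact (move hA0 k hk).symm
    · show tri a0 a1 a2 k * b2 = b2 * tri a0 a1 a2 k
      rw [← t1, ← t0]; exact (move (move hA0) k hk).symm
  obtain ⟨inj, sur⟩ := pair_spec c A B hAB
  -- the image of a root lies in one of the triples
  have image : ∀ {u : G}, u ∈ Q → u * u = s →
      (∃ k, 0 < k ∧ k < 4 ∧ ∃ e, (e = 1 ∨ e = s) ∧ y * u * y⁻¹ = tri a0 a1 a2 k * e) ∨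
      (∃ k, 0 < k ∧ k < 4 ∧ ∃ e, (e = 1 ∨ e = s) ∧ y * u * y⁻¹ = tri b0 b1 b2 k * e) := by
    intro u hu hu2
    obtain ⟨⟨k, l, d⟩, hk, hl, hd, e⟩ := sur _ (yQ u hu)
    simp only at hk hl hd
    have hsq : y * u * y⁻¹ * (y * u * y⁻¹) = s := by
      rw [conj_mul, hu2, sy, mul_inv_cancel_right]
    rw [e] at hsq
    have h2 : bit s (nz k + nz l) = s := by
      simp only [qel] at hsq
      refine Eq.trans ?_ hsq
      rw [bit_add c.s2, ← A.sq_tri c hk, ← B.sq_tri c hl]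
      have hc1 : Commute (bit s d) (tri a0 a1 a2 k) := (bit_comm (c.cs _ (A.mem k)) d).symm
      have hc2 : Commute (bit s d) (tri b0 b1 b2 l) := (bit_comm (c.cs _ (B.mem l)) d).symm
      have hdd : bit s d * bit s d = 1 := by
        rw [← bit_add c.s2]; simp [bit, show (d + d) % 2 = 0 by omega]
      symm
      calc tri a0 a1 a2 k * tri b0 b1 b2 l * bit s d * (tri a0 a1 a2 k * tri b0 b1 b2 l * bit s d)
          = tri a0 a1 a2 k * tri b0 b1 b2 l * (bit s d * (tri a0 a1 a2 k * tri b0 b1 b2 l)) * bit s d := by group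
        _ = tri a0 a1 a2 k * (tri b0 b1 b2 l * tri a0 a1 a2 k) * tri b0 b1 b2 l * (bit s d * bit s d) := by
            rw [(hc1.mul_right hc2).eq]; group
        _ = _ := by rw [← hAB k hk l hl, hdd, mul_one]; group
    have hd2 : bit s d = 1 ∨ bit s d = s := by unfold bit; split <;> simp
    have hne : bit s (nz k + nz l) ≠ 1 := fun e' => c.s1 (h2.symm.trans e')
    by_cases hk0 : k = 0
    · subst hk0
      have hl0 : l ≠ 0 := fun e' => hne (by simp [e', nz, bit])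
      exact Or.inr ⟨l, by omega, hl, _, hd2, by rw [e]; simp [qel, tri]⟩
    · have hl0 : l = 0 := by
        by_contra hl0
        exact hne (by simp [nz, hk0, hl0, bit])
      subst hl0
      exact Or.inl ⟨k, by omega, hk, _, hd2, by rw [e]; simp [qel, tri]⟩
  have hyy' : ∃ sq, sq < 2 ∧ y * y = bit s sq := by
    rcases hyy with e | e
    · exact ⟨0, by norm_num, by simp [bit, e]⟩
    · exact ⟨1, by norm_num, by simp [bit, e]⟩
  obtain ⟨sq, hsq, hyy⟩ := hyy'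
  -- a fixed base of a triple whose root stays in it
  have fixed : ∀ {u0 u1 u2 : G}, Trip s x Q u0 u1 u2 →
      (∃ k, 0 < k ∧ k < 4 ∧ ∃ e, (e = 1 ∨ e = s) ∧ y * u0 * y⁻¹ = tri u0 u1 u2 k * e) →
      ∃ w0 w1 w2, Trip s x Q w0 w1 w2 ∧ ((w0 = u0 ∧ w1 = u1 ∧ w2 = u2) ∨ (w0 = u1 ∧ w1 = u2 ∧ w2 = u0) ∨
        (w0 = u2 ∧ w1 = u0 ∧ w2 = u1)) ∧ y * w0 * y⁻¹ = w0 * s ∧ y * w1 * y⁻¹ = w2 * s ∧ y * w2 * y⁻¹ = w1 * s := by
    rintro u0 u1 u2 U ⟨k, hk, hk4, e, he, h0⟩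
    interval_cases k
    · obtain ⟨-, f0, f1, f2⟩ := U.map_y c U hy sy he h0
      exact ⟨_, _, _, U, Or.inl ⟨rfl, rfl, rfl⟩, f0, f1, f2⟩
    · obtain ⟨-, f0, f1, f2⟩ := U.map_y c U.next hy sy he h0
      exact ⟨_, _, _, U.next.next, Or.inr (Or.inr ⟨rfl, rfl, rfl⟩), f2, f0, f1⟩
    · obtain ⟨-, f0, f1, f2⟩ := U.map_y c U.next.next hy sy he h0
      exact ⟨_, _, _, U.next, Or.inr (Or.inl ⟨rfl, rfl, rfl⟩), f1, f2, f0⟩
  have comm_perm : ∀ {u0 u1 u2 w0 w1 w2 v0 v1 v2 : G},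
      (∀ k < 4, ∀ l < 4, tri u0 u1 u2 k * tri v0 v1 v2 l = tri v0 v1 v2 l * tri u0 u1 u2 k) →
      ((w0 = u0 ∧ w1 = u1 ∧ w2 = u2) ∨ (w0 = u1 ∧ w1 = u2 ∧ w2 = u0) ∨ (w0 = u2 ∧ w1 = u0 ∧ w2 = u1)) →
      ∀ k < 4, ∀ l < 4, tri w0 w1 w2 k * tri v0 v1 v2 l = tri v0 v1 v2 l * tri w0 w1 w2 k := by
    rintro u0 u1 u2 w0 w1 w2 v0 v1 v2 h (⟨rfl, rfl, rfl⟩ | ⟨rfl, rfl, rfl⟩ | ⟨rfl, rfl, rfl⟩) k hk l hl
    · exact h k hk l hl
    all_goals interval_cases k
    · simp [tri]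
    · exact h 2 (by norm_num) l hl
    · exact h 3 (by norm_num) l hl
    · exact h 1 (by norm_num) l hl
    · simp [tri]
    · exact h 3 (by norm_num) l hl
    · exact h 1 (by norm_num) l hl
    · exact h 2 (by norm_num) l hl
  have finish : ∀ {sw : Bool} {u0 u1 u2 v0 v1 v2 : G}, Trip s x Q u0 u1 u2 → Trip s x Q v0 v1 v2 →
      (∀ k < 4, ∀ l < 4, tri u0 u1 u2 k * tri v0 v1 v2 l = tri v0 v1 v2 l * tri u0 u1 u2 k) →
      (∀ k < 4, y * tri u0 u1 u2 k * y⁻¹ =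
        (if sw then tri v0 v1 v2 (neg k) else tri u0 u1 u2 (neg k)) * bit s (nz k)) →
      (∀ k < 4, y * tri v0 v1 v2 k * y⁻¹ =
        (if sw then tri u0 u1 u2 (neg k) else tri v0 v1 v2 (neg k)) * bit s (nz k)) →
      ∃ (sw : Bool) (sq : ℕ) (A B : ℕ → G), sq < 2 ∧ Rels sw sq s x y A B ∧ (∀ k, A k ∈ Q ∧ B k ∈ Q) ∧
        (∀ p q : ℕ × ℕ × ℕ, p.1 < 4 → p.2.1 < 4 → p.2.2 < 2 → q.1 < 4 → q.2.1 < 4 → q.2.2 < 2 →
          qel s A B p = qel s A B q → p = q) ∧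
        ∀ g ∈ Q, ∃ p : ℕ × ℕ × ℕ, p.1 < 4 ∧ p.2.1 < 4 ∧ p.2.2 < 2 ∧ g = qel s A B p := by
    intro sw u0 u1 u2 v0 v1 v2 U V h hu hv
    obtain ⟨i', s'⟩ := pair_spec c U V h
    exact ⟨sw, sq, _, _, hsq, ⟨c.s2, fun k _ => c.cs _ (U.mem k), fun k _ => c.cs _ (V.mem k), c.sx, sy, rfl, rfl,
      U.table c, V.table c, h, c.x3, rot_tri U.r0 U.r1 U.r2, rot_tri V.r0 V.r1 V.r2, hy, hyy, hu, hv⟩, fun k => ⟨U.mem k, V.mem k⟩, i', s'⟩
  rcases image m0 q0 with hA | hB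
  · obtain ⟨w0, w1, w2, W, hw, f0, f1, f2⟩ := fixed A hA
    -- the second triple is preserved as well
    have hB' : ∃ k, 0 < k ∧ k < 4 ∧ ∃ e, (e = 1 ∨ e = s) ∧ y * b0 * y⁻¹ = tri b0 b1 b2 k * e := by
      refine (image n0 u0).resolve_left ?_
      rintro ⟨k, hk, hk4, e, he, h0⟩
      have hye : y * e * y⁻¹ = e := by rcases he with rfl | rfl <;> [group; exact mul_inv_eq_iff_eq_mul.2 sy]
      obtain ⟨k', d', hk', hk'4, h1⟩ : ∃ k' d', 0 < k' ∧ k' < 4 ∧
          y * tri a0 a1 a2 k * y⁻¹ = tri a0 a1 a2 k' * bit s d' := by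
        obtain ⟨K, hK0, hK4, e', he', g0⟩ := hA
        have cases3 : ∀ {t0 t1 t2 : G}, Trip s x Q t0 t1 t2 → y * a0 * y⁻¹ = t0 * e' →
            y * a0 * y⁻¹ = t0 * s ∧ y * a1 * y⁻¹ = t2 * s ∧ y * a2 * y⁻¹ = t1 * s := fun T hT =>
          (A.map_y c T hy sy he' hT).2
        interval_cases K
        · obtain ⟨g0', g1', g2'⟩ := cases3 A g0
          interval_cases k
          exacts [⟨1, 1, by norm_num, by norm_num, by simpa [tri, bit] using g0'⟩,
            ⟨3, 1, by norm_num, by norm_num, by simpa [tri, bit] using g1'⟩,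
            ⟨2, 1, by norm_num, by norm_num, by simpa [tri, bit] using g2'⟩]
        · obtain ⟨g0', g1', g2'⟩ := cases3 A.next g0
          interval_cases k
          exacts [⟨2, 1, by norm_num, by norm_num, by simpa [tri, bit] using g0'⟩,
            ⟨1, 1, by norm_num, by norm_num, by simpa [tri, bit] using g1'⟩,
            ⟨3, 1, by norm_num, by norm_num, by simpa [tri, bit] using g2'⟩]
        · obtain ⟨g0', g1', g2'⟩ := cases3 A.next.next g0
          interval_cases k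
          exacts [⟨3, 1, by norm_num, by norm_num, by simpa [tri, bit] using g0'⟩,
            ⟨2, 1, by norm_num, by norm_num, by simpa [tri, bit] using g1'⟩,
            ⟨1, 1, by norm_num, by norm_num, by simpa [tri, bit] using g2'⟩]
      have h2 : y * (y * b0 * y⁻¹) * y⁻¹ = b0 := by
        calc y * (y * b0 * y⁻¹) * y⁻¹ = (y * y) * b0 * (y * y)⁻¹ := by group
          _ = b0 := by rw [hyy, mul_inv_eq_iff_eq_mul, bit_comm (c.cs b0 n0)]
      rw [h0, conj_mul'' , h1, hye] at h2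
      have hcc : tri a0 a1 a2 k' * bit s d' * e =
          qel s (tri a0 a1 a2) (tri b0 b1 b2) (k', 0, (d' + if e = 1 then 0 else 1) % 2) := by
        simp only [qel, bit_mod, bit_add c.s2]
        rcases he with rfl | rfl <;> simp [tri, bit, c.s1, mul_assoc]
      have hb' : b0 = qel s (tri a0 a1 a2) (tri b0 b1 b2) (0, 1, 0) := by simp [qel, tri, bit]
      rw [hcc, hb'] at h2
      have := inj _ _ hk'4 (by norm_num) (Nat.mod_lt _ (by norm_num)) (by norm_num) (by norm_num) (by norm_num) h2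
      simp at this
    obtain ⟨z0, z1, z2, Z, hz, g0, g1, g2⟩ := fixed B hB'
    refine finish (sw := false) W Z ?_ ?_ ?_
    · exact fun k hk l hl => (comm_perm (fun k hk l hl => ((comm_perm hAB hw) l hl k hk).symm) hz l hl k hk).symm
    · intro k hk; interval_cases k <;> simp [tri, neg, nz, bit, f0, f1, f2]
    · intro k hk; interval_cases k <;> simp [tri, neg, nz, bit, g0, g1, g2]
  · obtain ⟨k, hk, hk4, e, he, h0⟩ := hB
    obtain ⟨z0, z1, z2, Z, hz, f0, f1, f2⟩ : ∃ z0 z1 z2, Trip s x Q z0 z1 z2 ∧ ((z0 = b0 ∧ z1 = b1 ∧ z2 = b2) ∨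
        (z0 = b1 ∧ z1 = b2 ∧ z2 = b0) ∨ (z0 = b2 ∧ z1 = b0 ∧ z2 = b1)) ∧
        y * a0 * y⁻¹ = z0 * s ∧ y * a1 * y⁻¹ = z2 * s ∧ y * a2 * y⁻¹ = z1 * s := by
      interval_cases k
      · exact ⟨_, _, _, B, Or.inl ⟨rfl, rfl, rfl⟩, (A.map_y c B hy sy he h0).2⟩
      · exact ⟨_, _, _, B.next, Or.inr (Or.inl ⟨rfl, rfl, rfl⟩), (A.map_y c B.next hy sy he h0).2⟩
      · exact ⟨_, _, _, B.next.next, Or.inr (Or.inr ⟨rfl, rfl, rfl⟩), (A.map_y c B.next.next hy sy he h0).2⟩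
    have back : ∀ {u v : G}, u ∈ Q → y * u * y⁻¹ = v * s → y * v * y⁻¹ = u * s := by
      intro u v hu h
      have : v = y * u * y⁻¹ * s := by rw [h, mul_assoc, c.s2, mul_one]
      rw [this]
      calc y * (y * u * y⁻¹ * s) * y⁻¹ = (y * y) * u * (y * y)⁻¹ * (y * s * y⁻¹) := by group
        _ = u * s := by
          rw [hyy, mul_inv_eq_iff_eq_mul.2 (bit_comm (c.cs u hu) sq).symm, mul_inv_eq_iff_eq_mul.2 sy]
    refine finish (sw := true) A Z ?_ ?_ ?_
    · exact fun k hk l hl => (comm_perm (fun k hk l hl => (hAB l hl k hk).symm) hz l hl k hk).symm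
    · intro k hk; interval_cases k <;> simp [tri, neg, nz, bit, f0, f1, f2]
    · intro k hk
      interval_cases k <;> simp [tri, neg, nz, bit, back m0 f0, back m1 f1, back m2 f2]

end Cfsg.Agent.Invol.Cen192
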