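import Mathlib

/-! A multiplication formula for groups `(Q₈ ∘ Q₈).S₃` of order 192. -/

set_option autoImplicit false

namespace Cfsg.Agent.Invol.Cen192

/-- product in the quaternion group: index and sign -/
def q8 : ℕ → ℕ → ℕ × ℕ
  | 0, l => (l, 0)
  | k, 0 => (k, 0)
  | 1, 1 => (0, 1) | 1, 2 => (3, 0) | 1, 3 => (2, 1)
  | 2, 1 => (3, 1) | 2, 2 => (0, 1) | 2, 3 => (1, 0)
  | 3, 1 => (2, 0) | 3, 2 => (1, 1) | 3, 3 => (0, 1)
  | _, _ => (0, 0)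

/-- the cyclic shift -/
def rot (k i : ℕ) : ℕ := if k = 0 then 0 else (k - 1 + i) % 3 + 1

/-- the reflection -/
def neg (k : ℕ) : ℕ := if k = 0 then 0 else (3 - (k - 1)) % 3 + 1

/-- `0` for the identity, `1` otherwise -/
def nz (k : ℕ) : ℕ := if k = 0 then 0 else 1

/-- product in the central product -/
def qq (p q : ℕ × ℕ × ℕ) : ℕ × ℕ × ℕ :=
  ((q8 p.1 q.1).1, (q8 p.2.1 q.2.1).1, (p.2.2 + q.2.2 + (q8 p.1 q.1).2 + (q8 p.2.1 q.2.1).2) % 2)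

/-- conjugation by the element of order three -/
def phx (p : ℕ × ℕ × ℕ) (i : ℕ) : ℕ × ℕ × ℕ := (rot p.1 i, rot p.2.1 i, p.2.2)

/-- conjugation by the inverting element -/
def phy (sw : Bool) (p : ℕ × ℕ × ℕ) : ℕ × ℕ × ℕ :=
  if sw then (neg p.2.1, neg p.1, (p.2.2 + nz p.1 + nz p.2.1) % 2)
  else (neg p.1, neg p.2.1, (p.2.2 + nz p.1 + nz p.2.1) % 2)

def qOf (n : ℕ) : ℕ × ℕ × ℕ := (n / 24 % 4, n / 6 % 4, n / 96)
def iOf (n : ℕ) : ℕ := n / 2 % 3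
def jOf (n : ℕ) : ℕ := n % 2

def enc (p : ℕ × ℕ × ℕ) (i j : ℕ) : ℕ := (((p.1 + 4 * p.2.2) * 4 + p.2.1) * 3 + i) * 2 + j

/-- the product -/
def fmul (sw : Bool) (sq : ℕ) (n m : ℕ) : ℕ :=
  let r := if jOf n = 1 then phy sw (qOf m) else qOf m
  let k := if jOf n = 1 then (3 - iOf m) % 3 else iOf m
  let p := qq (qOf n) (phx r (iOf n))
  let c := if jOf n = 1 ∧ jOf m = 1 then sq else 0
  enc (p.1, p.2.1, (p.2.2 + c) % 2) ((iOf n + k) % 3) ((jOf n + jOf m) % 2)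

end Cfsg.Agent.Invol.Cen192
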