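import Cfsg.Agent.Lib.Invol.Cen192.Start

/-! If all involutions of the centraliser lie in `Q` then `s` is weakly closed in `Q`. -/

set_option autoImplicit false
set_option linter.unusedSectionVars false
set_option maxRecDepth 100000

namespace Cfsg.Agent.Invol.Cen192

theorem fmul_lt {sw : Bool} {sq n m : ℕ} : fmul sw sq n m < 192 := by
  simp only [fmul, enc]
  set k := if jOf n = 1 then (3 - iOf m) % 3 else iOf m
  set r := if jOf n = 1 then phy sw (qOf m) else qOf m with hr
  have h4 : ∀ k < 4, neg k < 4 := neg_lt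
  have hr1 : r.1 < 4 ∧ r.2.1 < 4 := by
    rw [hr]; split
    · unfold phy; split <;> exact ⟨h4 _ (by simp only [qOf]; omega), h4 _ (by simp only [qOf]; omega)⟩
    · simp only [qOf]; omega
  have hi : iOf n < 3 := by simp only [iOf]; omega
  have h1 : (qq (qOf n) (phx r (iOf n))).1 < 4 ∧ (qq (qOf n) (phx r (iOf n))).2.1 < 4 :=
    ⟨q8_lt _ (by simp only [qOf]; omega) _ (rot_lt _ hr1.1 _ hi).1,
      q8_lt _ (by simp only [qOf]; omega) _ (rot_lt _ hr1.2 _ hi).1⟩
  generalize (qq (qOf n) (phx r (iOf n))) = p at h1 ⊢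
  omega

/-- involutions of the table -/
def invo (sw : Bool) (sq i : ℕ) : Bool := !(i == 0) && fmul sw sq i i == 0

theorem minus_ok : ∀ sw : Bool,
    ((List.range 192).all fun i => !(invo sw 1 i) || i % 6 == 0) = true ∧
    (((List.range 32).map (6 * ·)).all fun u => u == 96 || !(invo sw 1 u) ||
      ((List.range 32).map (6 * ·)).any fun i => invo sw 1 i && fmul sw 1 u i == fmul sw 1 i u &&
        ((List.range 32).map (6 * ·)).any fun j => invo sw 1 j && fmul sw 1 u j == fmul sw 1 j u &&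
          !(fmul sw 1 i j == fmul sw 1 j i)) = true := by
  decide +kernel

variable {G : Type*} [Group G]

theorem el_const {sw : Bool} {sq : ℕ} {s x y : G} {A B : ℕ → G} (r : Rels sw sq s x y A B) :
    el s x y A B 0 = 1 ∧ el s x y A B 96 = s := by
  simp [el, qel, qOf, iOf, jOf, bit, r.A0, r.B0]

/-- The two twisted centralisers do not occur. -/
theorem minus_false {sw : Bool} {s x y : G} {Q : Subgroup G} {A B : ℕ → G} (r : Rels sw 1 s x y A B) (s1 : s ≠ 1)
    (inj : ∀ i < 192, ∀ j < 192, el s x y A B i = el s x y A B j → i = j)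
    (cen : ∀ g : G, g * s = s * g ↔ ∃ i < 192, el s x y A B i = g)
    (hQ : ∀ g : G, g ∈ Q ↔ ∃ i < 192, i % 6 = 0 ∧ el s x y A B i = g)
    (hder : ∀ p ∈ Q, ∀ q ∈ Q, p * q = q * p ∨ p * q = q * p * s)
    {g : G} (hg : g * s * g⁻¹ ∈ Q) (hne : g * s * g⁻¹ ≠ s) : False := by
  obtain ⟨e0, e96⟩ := el_const r
  obtain ⟨hinQ, hwit⟩ := minus_ok sw
  simp only [List.all_eq_true, List.any_eq_true, List.mem_range, List.mem_map, Bool.or_eq_true, Bool.not_eq_true',
    Bool.and_eq_true, beq_iff_eq, beq_eq_false_iff_ne, forall_exists_index, and_imp, forall_apply_eq_imp_iff₂] at hinQ hwit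
  have inv_iff : ∀ i < 192, invo sw 1 i = true ↔ el s x y A B i ≠ 1 ∧ el s x y A B i * el s x y A B i = 1 := by
    intro i hi
    rw [r.el_mul]
    simp only [invo, Bool.and_eq_true, Bool.not_eq_true', beq_eq_false_iff_ne, beq_iff_eq]
    refine and_congr ⟨fun h e => h (inj i hi 0 (by norm_num) (e.trans e0.symm)), fun h e => h (by rw [e, e0])⟩
      ⟨fun h => by rw [h, e0], fun h => inj _ fmul_lt 0 (by norm_num) (h.trans e0.symm)⟩
  obtain ⟨u, hu, hu6, hue⟩ := (hQ _).1 hg
  obtain ⟨a, rfl⟩ : ∃ a, u = 6 * a := ⟨u / 6, by omega⟩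
  have hinvu : invo sw 1 (6 * a) = true := (inv_iff _ hu).2 ⟨fun e => by
      rw [hue] at e
      exact s1 (by calc s = g⁻¹ * (g * s * g⁻¹) * g := by group
          _ = 1 := by rw [e]; group), by rw [hue, conj_mul, r.s2]; group⟩
  rcases hwit a (by omega) with (e | e) | ⟨_, ⟨i, hi, rfl⟩, ⟨hii, hiu⟩, _, ⟨j, hj, rfl⟩, ⟨hjj, hju⟩, hne'⟩
  · exact hne (by rw [← hue, e, e96])
  · rw [hinvu] at e; exact Bool.noConfusion e
  -- both involutions lie in the conjugate of `Q`
  have back : ∀ k < 192, invo sw 1 k = true → fmul sw 1 (6 * a) k = fmul sw 1 k (6 * a) →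
      g⁻¹ * el s x y A B k * g ∈ Q := by
    intro k hk hkk hku
    have hc : el s x y A B k * (g * s * g⁻¹) = g * s * g⁻¹ * el s x y A B k := by
      rw [← hue, r.el_mul, r.el_mul, hku]
    obtain ⟨m, hm, hme⟩ := (cen (g⁻¹ * el s x y A B k * g)).1 (by
      calc g⁻¹ * el s x y A B k * g * s = g⁻¹ * (el s x y A B k * (g * s * g⁻¹)) * g := by group
        _ = s * (g⁻¹ * el s x y A B k * g) := by rw [hc]; group)
    obtain ⟨k1, k2⟩ := (inv_iff k hk).1 hkk
    have hmi : invo sw 1 m = true := (inv_iff m hm).2 ⟨fun e => k1 (by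
        rw [hme] at e
        calc el s x y A B k = g * (g⁻¹ * el s x y A B k * g) * g⁻¹ := by group
          _ = 1 := by rw [e]; group), by
      rw [hme]
      calc g⁻¹ * el s x y A B k * g * (g⁻¹ * el s x y A B k * g) = g⁻¹ * (el s x y A B k * el s x y A B k) * g := by group
        _ = 1 := by rw [k2]; group⟩
    exact (hQ _).2 ⟨m, hm, (hinQ m hm).resolve_left (by simp [hmi]), hme⟩
  have hiQ : el s x y A B (6 * i) ∈ Q := (hQ _).2 ⟨_, by omega, by omega, rfl⟩
  have hjQ : el s x y A B (6 * j) ∈ Q := (hQ _).2 ⟨_, by omega, by omega, rfl⟩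
  have hnc : el s x y A B (6 * i) * el s x y A B (6 * j) ≠ el s x y A B (6 * j) * el s x y A B (6 * i) := fun e => by
    rw [r.el_mul, r.el_mul] at e
    exact hne' (inj _ fmul_lt _ fmul_lt e)
  have h1 := (hder _ hiQ _ hjQ).resolve_left hnc
  rcases hder _ (back _ (by omega) hii hiu) _ (back _ (by omega) hjj hju) with e | e
  · refine hnc ?_
    calc el s x y A B (6 * i) * el s x y A B (6 * j)
        = g * (g⁻¹ * el s x y A B (6 * i) * g * (g⁻¹ * el s x y A B (6 * j) * g)) * g⁻¹ := by group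
      _ = _ := by rw [e]; group
  · refine hne ?_
    have h2 : el s x y A B (6 * i) * el s x y A B (6 * j) =
        el s x y A B (6 * j) * el s x y A B (6 * i) * (g * s * g⁻¹) := by
      calc el s x y A B (6 * i) * el s x y A B (6 * j)
          = g * (g⁻¹ * el s x y A B (6 * i) * g * (g⁻¹ * el s x y A B (6 * j) * g)) * g⁻¹ := by group
        _ = _ := by rw [e]; group
    exact (mul_left_cancel (h2.symm.trans h1))

end Cfsg.Agent.Invol.Cen192
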