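import Cfsg.Agent.Lib.Invol.Cen192.Formula

/-! A group with the relations of `(Q₈ ∘ Q₈).S₃` multiplies by the formula. -/

set_option autoImplicit false

namespace Cfsg.Agent.Invol.Cen192

variable {G : Type*} [Group G]

/-- power given by a bit -/
def bit (s : G) (c : ℕ) : G := if c % 2 = 0 then 1 else s

theorem bit_add {s : G} (hs : s * s = 1) (c d : ℕ) : bit s (c + d) = bit s c * bit s d := by
  rcases Nat.mod_two_eq_zero_or_one c with hc | hc <;> rcases Nat.mod_two_eq_zero_or_one d with hd | hd <;>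
    simp [bit, Nat.add_mod, hc, hd, hs]

theorem bit_mod (s : G) (c : ℕ) : bit s (c % 2) = bit s c := by simp [bit]

theorem bit_comm {s g : G} (h : g * s = s * g) (c : ℕ) : g * bit s c = bit s c * g := by
  unfold bit
  split <;> simp [h]

/-- indexing a triple by 1, 2, 3 -/
def tri (a0 a1 a2 : G) : ℕ → G
  | 1 => a0
  | 2 => a1
  | 3 => a2
  | _ => 1

/-- The relations. -/
structure Rels (sw : Bool) (sq : ℕ) (s x y : G) (A B : ℕ → G) : Prop where
  s2 : s * s = 1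
  sA : ∀ k < 4, A k * s = s * A k
  sB : ∀ k < 4, B k * s = s * B k
  sx : x * s = s * x
  sy : y * s = s * y
  A0 : A 0 = 1
  B0 : B 0 = 1
  mA : ∀ k < 4, ∀ l < 4, A k * A l = A (q8 k l).1 * bit s (q8 k l).2
  mB : ∀ k < 4, ∀ l < 4, B k * B l = B (q8 k l).1 * bit s (q8 k l).2
  AB : ∀ k < 4, ∀ l < 4, A k * B l = B l * A k
  x3 : x * x * x = 1
  xA : ∀ k < 4, x * A k * x⁻¹ = A (rot k 1)
  xB : ∀ k < 4, x * B k * x⁻¹ = B (rot k 1)
  yx : y * x * y⁻¹ = x⁻¹
  yy : y * y = bit s sq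
  yA : ∀ k < 4, y * A k * y⁻¹ = (if sw then B (neg k) else A (neg k)) * bit s (nz k)
  yB : ∀ k < 4, y * B k * y⁻¹ = (if sw then A (neg k) else B (neg k)) * bit s (nz k)

/-- the element of the central product -/
def qel (s : G) (A B : ℕ → G) (p : ℕ × ℕ × ℕ) : G := A p.1 * B p.2.1 * bit s p.2.2

/-- the element with given index -/
def el (s x y : G) (A B : ℕ → G) (n : ℕ) : G := qel s A B (qOf n) * x ^ iOf n * y ^ jOf n

theorem q8_lt : ∀ k < 4, ∀ l < 4, (q8 k l).1 < 4 := by decide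

theorem rot_lt : ∀ k < 4, ∀ i < 3, rot k i < 4 ∧ rot (rot k 1) 1 = rot k 2 ∧ rot k 0 = k := by decide

theorem neg_lt : ∀ k < 4, neg k < 4 := by decide

namespace Rels

variable {sw : Bool} {sq : ℕ} {s x y : G} {A B : ℕ → G} (h : Rels sw sq s x y A B)
include h

theorem qel_mul {p q : ℕ × ℕ × ℕ} (h1 : p.1 < 4) (h2 : p.2.1 < 4) (h3 : q.1 < 4) (h4 : q.2.1 < 4) :
    qel s A B p * qel s A B q = qel s A B (qq p q) := by
  simp only [qel, qq, bit_mod]
  set a := (q8 p.1 q.1).2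
  set b := (q8 p.2.1 q.2.1).2
  have cA : bit s p.2.2 * A q.1 = A q.1 * bit s p.2.2 := (bit_comm (h.sA _ h3) _).symm
  have cB : bit s p.2.2 * B q.2.1 = B q.2.1 * bit s p.2.2 := (bit_comm (h.sB _ h4) _).symm
  calc A p.1 * B p.2.1 * bit s p.2.2 * (A q.1 * B q.2.1 * bit s q.2.2)
      = A p.1 * B p.2.1 * (bit s p.2.2 * A q.1) * B q.2.1 * bit s q.2.2 := by group
    _ = A p.1 * (B p.2.1 * A q.1) * (bit s p.2.2 * B q.2.1) * bit s q.2.2 := by rw [cA]; group
    _ = (A p.1 * A q.1) * (B p.2.1 * B q.2.1) * (bit s p.2.2 * bit s q.2.2) := by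
        rw [← h.AB _ h3 _ h2, cB]; group
    _ = A (q8 p.1 q.1).1 * bit s a * (B (q8 p.2.1 q.2.1).1 * bit s b) * (bit s p.2.2 * bit s q.2.2) := by
        rw [h.mA _ h1 _ h3, h.mB _ h2 _ h4]
    _ = A (q8 p.1 q.1).1 * (bit s a * B (q8 p.2.1 q.2.1).1) * bit s b * (bit s p.2.2 * bit s q.2.2) := by group
    _ = A (q8 p.1 q.1).1 * B (q8 p.2.1 q.2.1).1 * (bit s a * bit s b * bit s p.2.2 * bit s q.2.2) := by
        rw [← bit_comm (h.sB _ (q8_lt _ h2 _ h4))]; group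
    _ = A (q8 p.1 q.1).1 * B (q8 p.2.1 q.2.1).1 * bit s (p.2.2 + q.2.2 + a + b) := by
        simp only [← bit_add h.s2]
        ring_nf

theorem x_qel {p : ℕ × ℕ × ℕ} (h1 : p.1 < 4) (h2 : p.2.1 < 4) : ∀ i < 3,
    x ^ i * qel s A B p * (x ^ i)⁻¹ = qel s A B (phx p i) := by
  have step : ∀ {q : ℕ × ℕ × ℕ}, q.1 < 4 → q.2.1 < 4 → x * qel s A B q * x⁻¹ = qel s A B (phx q 1) := by
    intro q h3 h4
    simp only [qel, phx]
    calc x * (A q.1 * B q.2.1 * bit s q.2.2) * x⁻¹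
        = (x * A q.1 * x⁻¹) * (x * B q.2.1 * x⁻¹) * (x * bit s q.2.2 * x⁻¹) := by group
      _ = _ := by rw [h.xA _ h3, h.xB _ h4, bit_comm h.sx, mul_inv_cancel_right]
  intro i hi
  interval_cases i
  · simp [phx, (rot_lt _ h1 0 (by norm_num)).2.2, (rot_lt _ h2 0 (by norm_num)).2.2]
  · simpa using step h1 h2
  · obtain ⟨r1, e1, -⟩ := rot_lt _ h1 1 (by norm_num)
    obtain ⟨r2, e2, -⟩ := rot_lt _ h2 1 (by norm_num)
    rw [pow_two, mul_inv_rev, show x * x * qel s A B p * (x⁻¹ * x⁻¹) = x * (x * qel s A B p * x⁻¹) * x⁻¹ by group,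
      step h1 h2, step (q := phx p 1) r1 r2]
    simp only [phx, e1, e2]

theorem y_qel {p : ℕ × ℕ × ℕ} (h1 : p.1 < 4) (h2 : p.2.1 < 4) :
    y * qel s A B p * y⁻¹ = qel s A B (phy sw p) := by
  have e : y * qel s A B p * y⁻¹ = (y * A p.1 * y⁻¹) * (y * B p.2.1 * y⁻¹) * bit s p.2.2 := by
    simp only [qel]
    calc y * (A p.1 * B p.2.1 * bit s p.2.2) * y⁻¹
        = (y * A p.1 * y⁻¹) * (y * B p.2.1 * y⁻¹) * (y * bit s p.2.2 * y⁻¹) := by group
      _ = _ := by rw [bit_comm h.sy, mul_inv_cancel_right]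
  rw [e, h.yA _ h1, h.yB _ h2]
  cases sw
  · simp only [Bool.false_eq_true, if_false, phy, qel, bit_mod]
    calc A (neg p.1) * bit s (nz p.1) * (B (neg p.2.1) * bit s (nz p.2.1)) * bit s p.2.2
        = A (neg p.1) * (bit s (nz p.1) * B (neg p.2.1)) * bit s (nz p.2.1) * bit s p.2.2 := by group
      _ = A (neg p.1) * B (neg p.2.1) * (bit s (nz p.1) * bit s (nz p.2.1) * bit s p.2.2) := by
          rw [← bit_comm (h.sB _ (neg_lt _ h2))]; group
      _ = _ := by simp only [← bit_add h.s2]; ring_nf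
  · simp only [if_true, phy, qel, bit_mod]
    calc B (neg p.1) * bit s (nz p.1) * (A (neg p.2.1) * bit s (nz p.2.1)) * bit s p.2.2
        = B (neg p.1) * (bit s (nz p.1) * A (neg p.2.1)) * bit s (nz p.2.1) * bit s p.2.2 := by group
      _ = (B (neg p.1) * A (neg p.2.1)) * (bit s (nz p.1) * bit s (nz p.2.1) * bit s p.2.2) := by
          rw [← bit_comm (h.sA _ (neg_lt _ h2))]; group
      _ = _ := by
          rw [← h.AB _ (neg_lt _ h2) _ (neg_lt _ h1)]
          simp only [← bit_add h.s2]; ring_nf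

theorem x_pow {n : ℕ} : x ^ n = x ^ (n % 3) := by
  conv_lhs => rw [← Nat.div_add_mod n 3, pow_add, pow_mul, show x ^ 3 = 1 by rw [pow_succ, pow_two]; exact h.x3,
    one_pow, one_mul]

theorem y_pow_x {i : ℕ} (hi : i < 3) : y * x ^ i * y⁻¹ = x ^ ((3 - i) % 3) := by
  rw [← conj_pow, h.yx]
  have e : x⁻¹ = x ^ 2 := inv_eq_of_mul_eq_one_right (by rw [pow_two, ← mul_assoc]; exact h.x3)
  rw [e, ← pow_mul, h.x_pow]
  interval_cases i <;> rfl

theorem el_mul {n m : ℕ} : el s x y A B n * el s x y A B m = el s x y A B (fmul sw sq n m) := by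
  have hn1 : (qOf n).1 < 4 ∧ (qOf n).2.1 < 4 := by simp only [qOf]; omega
  have hm1 : (qOf m).1 < 4 ∧ (qOf m).2.1 < 4 := by simp only [qOf]; omega
  have hi : iOf n < 3 := by simp only [iOf]; omega
  have hk : iOf m < 3 := by simp only [iOf]; omega
  have hj : jOf n = 0 ∨ jOf n = 1 := by simp only [jOf]; omega
  have hl : jOf m = 0 ∨ jOf m = 1 := by simp only [jOf]; omega
  set r := if jOf n = 1 then phy sw (qOf m) else qOf m with hr
  set k := if jOf n = 1 then (3 - iOf m) % 3 else iOf m with hk'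
  have hr1 : r.1 < 4 ∧ r.2.1 < 4 := by
    rw [hr]; split
    · unfold phy; split <;> exact ⟨neg_lt _ (by simp [hm1]), neg_lt _ (by simp [hm1])⟩
    · exact hm1
  have e1 : y ^ jOf n * qel s A B (qOf m) * x ^ iOf m = qel s A B r * x ^ k * y ^ jOf n := by
    rcases hj with e | e
    · simp [hr, hk', e]
    · simp only [hr, hk', e, if_true, pow_one]
      rw [← h.y_qel hm1.1 hm1.2, ← h.y_pow_x hk]; group
  have e2 : x ^ iOf n * qel s A B r = qel s A B (phx r (iOf n)) * x ^ iOf n := by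
    rw [← h.x_qel hr1.1 hr1.2 _ hi, inv_mul_cancel_right]
  have hpx : (phx r (iOf n)).1 < 4 ∧ (phx r (iOf n)).2.1 < 4 :=
    ⟨(rot_lt _ hr1.1 _ hi).1, (rot_lt _ hr1.2 _ hi).1⟩
  set p := qq (qOf n) (phx r (iOf n)) with hp
  set c := if jOf n = 1 ∧ jOf m = 1 then sq else 0 with hc
  have e3 : y ^ jOf n * y ^ jOf m = bit s c * y ^ ((jOf n + jOf m) % 2) := by
    rcases hj with e | e <;> rcases hl with e' | e' <;> simp [hc, e, e', bit, ← pow_two]
    simpa [bit, pow_two] using h.yy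
  have hxc : ∀ i, x ^ i * bit s c = bit s c * x ^ i := fun i =>
    bit_comm ((show Commute x s from h.sx).pow_left i).eq c
  have hpq : qel s A B p * bit s c = qel s A B (p.1, p.2.1, (p.2.2 + c) % 2) := by
    simp only [qel, bit_mod, bit_add h.s2]; group
  have hp4 : p.1 < 4 ∧ p.2.1 < 4 := ⟨q8_lt _ hn1.1 _ hpx.1, q8_lt _ hn1.2 _ hpx.2⟩
  have hf : fmul sw sq n m =
      enc (p.1, p.2.1, (p.2.2 + c) % 2) ((iOf n + k) % 3) ((jOf n + jOf m) % 2) := rfl
  have hd : ∀ (q : ℕ × ℕ × ℕ) (i j : ℕ), q.1 < 4 → q.2.1 < 4 → q.2.2 < 2 → i < 3 → j < 2 →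
      qOf (enc q i j) = q ∧ iOf (enc q i j) = i ∧ jOf (enc q i j) = j := by
    rintro ⟨q1, q2, q3⟩ i j a b c' d e
    simp only [qOf, iOf, jOf, enc, Prod.mk.injEq] at *
    omega
  obtain ⟨d1, d2, d3⟩ := hd (p.1, p.2.1, (p.2.2 + c) % 2) ((iOf n + k) % 3) ((jOf n + jOf m) % 2) hp4.1 hp4.2
    (Nat.mod_lt _ (by norm_num)) (Nat.mod_lt _ (by norm_num)) (Nat.mod_lt _ (by norm_num))
  rw [hf, el, el, el, d1, d2, d3, ← hpq, ← h.x_pow]
  calc qel s A B (qOf n) * x ^ iOf n * y ^ jOf n * (qel s A B (qOf m) * x ^ iOf m * y ^ jOf m)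
      = qel s A B (qOf n) * x ^ iOf n * (y ^ jOf n * qel s A B (qOf m) * x ^ iOf m) * y ^ jOf m := by group
    _ = qel s A B (qOf n) * (x ^ iOf n * qel s A B r) * x ^ k * (y ^ jOf n * y ^ jOf m) := by rw [e1]; group
    _ = (qel s A B (qOf n) * qel s A B (phx r (iOf n))) * (x ^ (iOf n + k) * bit s c) * y ^ ((jOf n + jOf m) % 2) := by
        rw [e2, e3, pow_add]; group
    _ = qel s A B p * bit s c * x ^ (iOf n + k) * y ^ ((jOf n + jOf m) % 2) := by
        rw [h.qel_mul hn1.1 hn1.2 hpx.1 hpx.2, hxc]; simp only [hp, mul_assoc]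

end Rels

end Cfsg.Agent.Invol.Cen192
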