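import Cfsg.Agent.Lib.Invol.Cen192.Exists

/-! From the hypotheses to the indexed centraliser. -/

set_option autoImplicit false
set_option linter.unusedSectionVars false
set_option linter.style.haveILetI false

namespace Cfsg.Agent.Invol.Cen192

theorem perm3_invert : ∀ a b : Equiv.Perm (Fin 3), a ≠ 1 → a * a * a = 1 → Equiv.Perm.sign b = -1 →
    b * a * b⁻¹ = a⁻¹ ∧ b * b = 1 := by decide +kernel

theorem perm3_even : ∀ a : Equiv.Perm (Fin 3), a * a * a = 1 → Equiv.Perm.sign a = 1 := by decide +kernel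

theorem perm3_cases : ∀ a p : Equiv.Perm (Fin 3), a ≠ 1 → a * a * a = 1 → ∀ b : Equiv.Perm (Fin 3),
    Equiv.Perm.sign b = -1 → ∃ i < 3, ∃ j < 2, p = a ^ i * b ^ j := by decide +kernel

theorem perm3_inv : ∀ a : Equiv.Perm (Fin 3), a ≠ 1 → ∀ i < 3, a * a * a = 1 → a⁻¹ = a ^ i → i = 2 := by decide +kernel

theorem perm3_uniq : ∀ a b : Equiv.Perm (Fin 3), a ≠ 1 → a * a * a = 1 → Equiv.Perm.sign b = -1 →
    ∀ (i : Fin 3) (j : Fin 2) (i' : Fin 3) (j' : Fin 2),
      a ^ i.val * b ^ j.val = a ^ i'.val * b ^ j'.val → i = i' ∧ j = j' := by decide +kernel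

variable {G : Type*} [Group G] [Finite G]

/-- The indexed centraliser. -/
theorem exists_el (s : G) (hs : orderOf s = 2) (L : Subgroup G) (hL : L = Subgroup.centralizer ({s} : Set G))
    (Q : Subgroup G) (hQ : Q = (Cfsg.pCore 2 L).map L.subtype)
    (hQex : Cfsg.IsExtraspecial 2 Q) (hQcard : Nat.card Q = 32)
    (f : L →* Equiv.Perm (Fin 3)) (hfs : Function.Surjective f) (hfk : f.ker = Cfsg.pCore 2 L) (X : Sylow 3 L)
    (hCQX : Q ⊓ Subgroup.centralizer (((X : Subgroup L).map L.subtype : Subgroup G) : Set G) = Subgroup.zpowers s) :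
    ∃ (sw : Bool) (sq : ℕ) (x y : G) (A B : ℕ → G), sq < 2 ∧ Rels sw sq s x y A B ∧
      (∀ i < 192, ∀ j < 192, el s x y A B i = el s x y A B j → i = j) ∧
      (∀ g : G, g * s = s * g ↔ ∃ i < 192, el s x y A B i = g) ∧
      (∀ g : G, g ∈ Q ↔ ∃ i < 192, i % 6 = 0 ∧ el s x y A B i = g) ∧
      ∀ p ∈ Q, ∀ q ∈ Q, p * q = q * p ∨ p * q = q * p * s := by
  classical
  haveI : Fact (Nat.Prime 3) := ⟨Nat.prime_three⟩
  obtain ⟨s2, s1⟩ : s * s = 1 ∧ s ≠ 1 := by
    refine ⟨?_, fun e => by rw [e, orderOf_one] at hs; omega⟩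
    have := pow_orderOf_eq_one s
    rwa [hs, pow_two] at this
  have memL : ∀ {g : G}, g ∈ L ↔ g * s = s * g := fun {g} => by
    rw [hL]; exact Subgroup.mem_centralizer_singleton_iff
  have hQmem : ∀ g : G, g ∈ Q ↔ ∃ hg : g ∈ L, f ⟨g, hg⟩ = 1 := by
    intro g
    rw [hQ, Subgroup.mem_map]
    constructor
    · rintro ⟨l, hl, rfl⟩
      exact ⟨l.2, MonoidHom.mem_ker.1 (hfk ▸ hl)⟩
    · rintro ⟨hg, e⟩
      exact ⟨⟨g, hg⟩, hfk ▸ MonoidHom.mem_ker.2 e, rfl⟩
  have hker : Nat.card f.ker = 32 := by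
    rw [hfk, ← hQcard, hQ]
    exact Nat.card_congr ((Cfsg.pCore 2 L).equivMapOfInjective L.subtype Subtype.coe_injective).toEquiv
  have hcardL : Nat.card L = 192 := by
    have h1 := f.ker.card_mul_index
    rw [hker, Subgroup.index_ker, MonoidHom.range_eq_top.2 hfs, Subgroup.card_top] at h1
    rw [← h1, Nat.card_eq_fintype_card, Fintype.card_perm, Fintype.card_fin]
    rfl
  have hX : Nat.card (X : Subgroup L) = 3 := by
    rw [X.card_eq_multiplicity, hcardL]
    rw [Nat.factorization_def 192 Nat.prime_three]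
    have : padicValNat 3 192 = 1 := by
      rw [show (192 : ℕ) = 3 * 64 by norm_num, padicValNat.mul (by norm_num) (by norm_num),
        padicValNat.self (by norm_num), padicValNat.eq_zero_of_not_dvd (by norm_num)]
    rw [this, pow_one]
  obtain ⟨xL, hxX, hx1⟩ : ∃ xL : L, xL ∈ (X : Subgroup L) ∧ xL ≠ 1 := by
    rcases (X : Subgroup L).bot_or_exists_ne_one with e | e
    · rw [e, Subgroup.card_bot] at hX; omega
    · exact e
  have hgen : ∀ l : L, l ∈ (X : Subgroup L) → ∃ i < 3, l = xL ^ i := by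
    have ho : orderOf xL = 3 := by
      have := Subgroup.orderOf_dvd_natCard _ hxX
      rw [hX] at this
      exact ((Nat.dvd_prime Nat.prime_three).1 this).resolve_left fun e => hx1 (orderOf_eq_one_iff.1 e)
    intro l hl
    have heq : Subgroup.zpowers xL = (X : Subgroup L) :=
      Subgroup.eq_of_le_of_card_ge (Subgroup.zpowers_le.2 hxX) (by rw [hX, Nat.card_zpowers, ho])
    rw [← heq, mem_zpowers_iff_mem_range_orderOf, ho, Finset.mem_image] at hl
    obtain ⟨i, hi, rfl⟩ := hl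
    exact ⟨i, Finset.mem_range.1 hi, rfl⟩
  have hxL3 : xL * xL * xL = 1 := by
    have := Subgroup.orderOf_dvd_natCard _ hxX
    rw [hX] at this
    rw [← pow_two, ← pow_succ]
    exact orderOf_dvd_iff_pow_eq_one.1 this
  set x : G := (xL : G) with hx
  have hx3 : x * x * x = 1 := congrArg Subtype.val hxL3
  have hxs : x * s = s * x := memL.1 xL.2
  have hfix : ∀ q ∈ Q, x * q * x⁻¹ = q → q = 1 ∨ q = s := by
    intro q hq hxq
    have : q ∈ Subgroup.zpowers s := by
      rw [← hCQX]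
      refine Subgroup.mem_inf.2 ⟨hq, Subgroup.mem_centralizer_iff.2 ?_⟩
      rintro _ ⟨l, hl, rfl⟩
      obtain ⟨i, -, rfl⟩ := hgen l hl
      exact ((show Commute x q from mul_inv_eq_iff_eq_mul.1 hxq).pow_left i).eq
    rw [mem_zpowers_iff_mem_range_orderOf, hs, Finset.mem_image] at this
    obtain ⟨i, hi, rfl⟩ := this
    have := Finset.mem_range.1 hi
    interval_cases i <;> simp
  have hsQ : s ∈ Q := by
    have : s ∈ Subgroup.zpowers s := Subgroup.mem_zpowers s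
    rw [← hCQX] at this
    exact (Subgroup.mem_inf.1 this).1
  have hQL : ∀ q ∈ Q, q ∈ L := fun q hq => ((hQmem q).1 hq).1
  have normQ : ∀ l ∈ L, ∀ q ∈ Q, l * q * l⁻¹ ∈ Q := by
    intro l hl q hq
    obtain ⟨hqL, e⟩ := (hQmem q).1 hq
    refine (hQmem _).2 ⟨mul_mem (mul_mem hl hqL) (inv_mem hl), ?_⟩
    rw [show (⟨l * q * l⁻¹, mul_mem (mul_mem hl hqL) (inv_mem hl)⟩ : L) = ⟨l, hl⟩ * ⟨q, hqL⟩ * ⟨l, hl⟩⁻¹ from rfl,
      map_mul, map_mul, e, mul_one, map_inv, mul_inv_cancel]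
  have hcs : ∀ q ∈ Q, q * s = s * q := fun q hq => memL.1 (hQL q hq)
  have hzen : ∀ q ∈ Q, (∀ r ∈ Q, q * r = r * q) → q = 1 ∨ q = s := by
    intro q hq h
    have h2 := hQex.2
    have hq' : (⟨q, hq⟩ : Q) ∈ Subgroup.center Q := Subgroup.mem_center_iff.2 fun r => Subtype.ext (h r r.2).symm
    have hs' : (⟨s, hsQ⟩ : Q) ∈ Subgroup.center Q := Subgroup.mem_center_iff.2 fun r => Subtype.ext (hcs r r.2)
    by_contra hcon
    push Not at hcon
    obtain ⟨a, b, hab, huniv⟩ := Nat.card_eq_two_iff.1 h2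
    have hmem : ∀ z : Subgroup.center Q, z = a ∨ z = b := fun z => by
      have : z ∈ ({a, b} : Set (Subgroup.center Q)) := huniv ▸ Set.mem_univ z
      simpa using this
    have ne1 : (⟨_, hs'⟩ : Subgroup.center Q) ≠ 1 := fun e => s1 (congrArg (fun t : Subgroup.center Q => ((t : Q) : G)) e)
    have ne2 : (⟨_, hq'⟩ : Subgroup.center Q) ≠ 1 := fun e => hcon.1 (congrArg (fun t : Subgroup.center Q => ((t : Q) : G)) e)
    have ne3 : (⟨_, hq'⟩ : Subgroup.center Q) ≠ ⟨_, hs'⟩ := fun e => hcon.2 (congrArg (fun t : Subgroup.center Q => ((t : Q) : G)) e)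
    rcases hmem ⟨_, hs'⟩ with e | e <;> rcases hmem ⟨_, hq'⟩ with e' | e' <;> rcases hmem 1 with e'' | e'' <;>
      first
        | exact ne3 (e'.trans e.symm)
        | exact ne1 (e.trans e''.symm)
        | exact ne2 (e'.trans e''.symm)
  have hder : ∀ q ∈ Q, ∀ r ∈ Q, q * r = r * q ∨ q * r = r * q * s := by
    intro q hq r hr
    set qq : Q := ⟨q, hq⟩ with hqq
    set rr : Q := ⟨r, hr⟩ with hrr
    have hm : qq⁻¹ * rr⁻¹ * qq * rr ∈ Subgroup.center Q := by
      rw [← hQex.1.2.2, commutator_def]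
      have := Subgroup.commutator_mem_commutator (Subgroup.mem_top qq⁻¹) (Subgroup.mem_top rr⁻¹)
      simpa [commutatorElement_def] using this
    have h1 := hzen _ ((qq⁻¹ * rr⁻¹ * qq * rr).2) (fun t ht =>
      congrArg Subtype.val (Subgroup.mem_center_iff.1 hm ⟨t, ht⟩).symm)
    simp only [hqq, hrr, Subgroup.coe_mul, Subgroup.coe_inv] at h1
    rcases h1 with e | e
    · left
      calc q * r = r * q * (q⁻¹ * r⁻¹ * q * r) := by group
        _ = r * q := by rw [e, mul_one]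
    · right
      calc q * r = r * q * (q⁻¹ * r⁻¹ * q * r) := by group
        _ = r * q * s := by rw [e]
  have c : Core s x Q := ⟨s2, s1, hsQ, hcs, hxs, hx3, normQ x xL.2, hQcard, hzen, hder, hfix⟩
  -- the inverting element
  have hfx : f xL ≠ 1 := fun e => by
    have hm : (xL : G) ∈ Q := (hQmem _).2 ⟨xL.2, e⟩
    rcases hfix _ hm (by rw [← hx]; group) with e' | e'
    · exact hx1 (Subtype.ext e')
    · rw [← hx] at e'
      rw [e', s2, one_mul] at hx3
      exact s1 hx3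
  have hfx3 : f xL * f xL * f xL = 1 := by rw [← map_mul, ← map_mul, hxL3, map_one]
  set H : Subgroup L := (Equiv.Perm.sign.comp f).ker with hH
  have hXH : (X : Subgroup L) ≤ H := fun l hl => by
    obtain ⟨i, -, rfl⟩ := hgen l hl
    rw [hH, MonoidHom.mem_ker, map_pow, MonoidHom.comp_apply, perm3_even _ hfx3, one_pow]
  obtain ⟨l, hl⟩ := hfs (Equiv.swap 0 1)
  have hl1 : Equiv.Perm.sign (f l) = -1 := by rw [hl]; decide
  have hlXH : ((MulAut.conj l • X : Sylow 3 L) : Subgroup L) ≤ H := by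
    rintro _ ⟨m, hm, rfl⟩
    exact (MonoidHom.normal_ker _).conj_mem m (hXH hm) l
  obtain ⟨h0, hh0⟩ := MulAction.exists_smul_eq H ((MulAut.conj l • X).subtype hlXH) (X.subtype hXH)
  set yL : L := (h0 : L) * l with hyL
  have hyX : yL * xL * yL⁻¹ ∈ (X : Subgroup L) := by
    have h1 : h0 * (⟨l * xL * l⁻¹, hlXH ⟨xL, hxX, rfl⟩⟩ : H) * h0⁻¹ ∈
        ((h0 • (MulAut.conj l • X).subtype hlXH : Sylow 3 H) : Subgroup H) := by
      rw [Sylow.coe_subgroup_smul]
      exact ⟨_, Subgroup.mem_subgroupOf.2 ⟨xL, hxX, rfl⟩, rfl⟩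
    rw [hh0] at h1
    have h2 := Subgroup.mem_subgroupOf.1 h1
    simpa [hyL, mul_assoc] using h2
  have hsy : Equiv.Perm.sign (f yL) = -1 := by
    have hh : Equiv.Perm.sign (f (h0 : L)) = 1 := MonoidHom.mem_ker.1 h0.2
    rw [hyL, map_mul, map_mul, hh, hl1, one_mul]
  obtain ⟨hinv, hsq⟩ := perm3_invert _ _ hfx hfx3 hsy
  have hyx : yL * xL * yL⁻¹ = xL⁻¹ := by
    obtain ⟨i, hi, e⟩ := hgen _ hyX
    have e2 := congrArg f e
    rw [map_mul, map_mul, map_inv, hinv, map_pow] at e2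
    rw [e, perm3_inv _ hfx i hi hfx3 e2]
    exact (inv_eq_of_mul_eq_one_right (by rw [pow_two, ← mul_assoc, hxL3])).symm
  set y : G := (yL : G) with hy
  have hyx' : y * x * y⁻¹ = x⁻¹ := congrArg Subtype.val hyx
  have hsys : y * s = s * y := memL.1 yL.2
  have hyy : y * y = 1 ∨ y * y = s := by
    refine hfix _ ((hQmem _).2 ⟨(yL * yL).2, ?_⟩) ?_
    · show f (yL * yL) = 1
      rw [map_mul, hsq]
    · have h2 : (y * y) * x * (y * y)⁻¹ = x := by
        calc (y * y) * x * (y * y)⁻¹ = y * (y * x * y⁻¹) * y⁻¹ := by group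
          _ = y * x⁻¹ * y⁻¹ := by rw [hyx']
          _ = (y * x * y⁻¹)⁻¹ := by group
          _ = x := by rw [hyx', inv_inv]
      rw [mul_inv_eq_iff_eq_mul] at h2 ⊢
      exact h2.symm
  obtain ⟨sw, sq, A, B, hsq2, r, hAQ, inj, sur⟩ := exists_rels c hyx' hsys (fun q hq => normQ y yL.2 q hq) hyy
  have hqQ : ∀ p : ℕ × ℕ × ℕ, qel s A B p ∈ Q := fun p => by
    refine mul_mem (mul_mem (hAQ _).1 (hAQ _).2) ?_
    unfold bit
    split <;> [exact one_mem _; exact hsQ]
  -- elements of the centraliser as products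
  have helL : ∀ (q : ℕ × ℕ × ℕ) (i j : ℕ), ∃ hm : qel s A B q * x ^ i * y ^ j ∈ L,
      f ⟨_, hm⟩ = f xL ^ i * f yL ^ j := by
    intro q i j
    obtain ⟨hq, e⟩ := (hQmem _).1 (hqQ q)
    refine ⟨mul_mem (mul_mem hq (pow_mem xL.2 _)) (pow_mem yL.2 _), ?_⟩
    rw [show (⟨qel s A B q * x ^ i * y ^ j, _⟩ : L) = ⟨qel s A B q, hq⟩ * xL ^ i * yL ^ j from
      Subtype.ext (by simp [hx, hy]), map_mul, map_mul, e, one_mul, map_pow, map_pow]
  refine ⟨sw, sq, x, y, A, B, hsq2, r, ?_, ?_, ?_, hder⟩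
  · intro n hn m hm e
    obtain ⟨_, e1⟩ := helL (qOf n) (iOf n) (jOf n)
    obtain ⟨_, e2⟩ := helL (qOf m) (iOf m) (jOf m)
    have e3 : f xL ^ iOf n * f yL ^ jOf n = f xL ^ iOf m * f yL ^ jOf m := by
      rw [← e1, ← e2]; exact congrArg f (Subtype.ext e)
    obtain ⟨hi', hj'⟩ := perm3_uniq _ _ hfx hfx3 hsy ⟨iOf n, by simp only [iOf]; omega⟩ ⟨jOf n, by simp only [jOf]; omega⟩
      ⟨iOf m, by simp only [iOf]; omega⟩ ⟨jOf m, by simp only [jOf]; omega⟩ e3
    have hi : iOf n = iOf m := congrArg Fin.val hi'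
    have hj : jOf n = jOf m := congrArg Fin.val hj'
    simp only [el, hi, hj] at e
    have hq := inj _ _ (by simp only [qOf]; omega) (by simp only [qOf]; omega) (by simp only [qOf]; omega)
      (by simp only [qOf]; omega) (by simp only [qOf]; omega) (by simp only [qOf]; omega)
      (mul_right_cancel (mul_right_cancel e))
    simp only [qOf, iOf, jOf, Prod.mk.injEq] at hq hi hj
    omega
  · intro g
    constructor
    · intro hg
      have hgL : g ∈ L := memL.2 hg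
      obtain ⟨i, hi, j, hj, e⟩ := perm3_cases (f xL) (f ⟨g, hgL⟩) hfx hfx3 (f yL) hsy
      have hgQ : g * (y ^ j)⁻¹ * (x ^ i)⁻¹ ∈ Q := by
        refine (hQmem _).2 ⟨mul_mem (mul_mem hgL (inv_mem (pow_mem yL.2 _))) (inv_mem (pow_mem xL.2 _)), ?_⟩
        rw [show (⟨g * (y ^ j)⁻¹ * (x ^ i)⁻¹, _⟩ : L) = ⟨g, hgL⟩ * (yL ^ j)⁻¹ * (xL ^ i)⁻¹ from
          Subtype.ext (by simp [hx, hy]), map_mul, map_mul, map_inv, map_inv, map_pow, map_pow, e]
        group
      obtain ⟨p, h1, h2, h3, hp⟩ := sur _ hgQ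
      have hlt : enc p i j < 192 := by simp only [enc]; omega
      refine ⟨enc p i j, hlt, ?_⟩
      have d : qOf (enc p i j) = p ∧ iOf (enc p i j) = i ∧ jOf (enc p i j) = j := by
        obtain ⟨p1, p2, p3⟩ := p
        simp only [qOf, iOf, jOf, enc, Prod.mk.injEq] at *
        omega
      rw [el, d.1, d.2.1, d.2.2, ← hp]; group
    · rintro ⟨n, -, rfl⟩
      exact memL.1 (helL _ _ _).1
  · intro g
    constructor
    · intro hg
      obtain ⟨p, h1, h2, h3, hp⟩ := sur g hg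
      refine ⟨enc p 0 0, by simp only [enc]; omega, by simp only [enc]; omega, ?_⟩
      have d : qOf (enc p 0 0) = p ∧ iOf (enc p 0 0) = 0 ∧ jOf (enc p 0 0) = 0 := by
        obtain ⟨p1, p2, p3⟩ := p
        simp only [qOf, iOf, jOf, enc, Prod.mk.injEq] at *
        omega
      rw [el, d.1, d.2.1, d.2.2, hp, pow_zero, pow_zero, mul_one, mul_one]
    · rintro ⟨n, -, hn6, rfl⟩
      rw [el, show iOf n = 0 by simp only [iOf]; omega, show jOf n = 0 by simp only [jOf]; omega, pow_zero, pow_zero,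
        mul_one, mul_one]
      exact hqQ _

end Cfsg.Agent.Invol.Cen192
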